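import Cfsg.Agent.Lib.Char.Orthogonality
import Cfsg.Agent.Lib.Char.Basic
import Mathlib.Analysis.SpecialFunctions.Complex.CircleAddChar
import Mathlib.NumberTheory.LegendreSymbol.AddCharacter
import Mathlib.NumberTheory.Cyclotomic.Basic

/-!
A lower bound for the squared values of a character on the generators of a cyclic subgroup of prime order,
when it vanishes on the products with a commuting subgroup.
-/

set_option autoImplicit false
set_option linter.unusedSectionVars false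

namespace Cfsg.Lib.MathieuBlock

open Cfsg
open scoped ComplexConjugate

universe u

variable {G : Type u} [Group G] [Finite G]

/-- The integer inequality behind the bound. -/
theorem card_mul_sum_sq_ge {ι : Type*} [Fintype ι] (N : ι → ℕ) :
    ((∑ j, N j) % Fintype.card ι : ℕ) * ((Fintype.card ι : ℤ) - ((∑ j, N j) % Fintype.card ι : ℕ)) ≤
      (Fintype.card ι : ℤ) * (∑ j, (N j : ℤ) ^ 2) - ((∑ j, N j : ℕ) : ℤ) ^ 2 := by
  set r := Fintype.card ι with hr
  set D := ∑ j, N j with hD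
  set a := D / r with ha
  set s := D % r with hs
  have hDs : (D : ℤ) = r * a + s := by exact_mod_cast (Nat.div_add_mod D r).symm
  have h1 : ∀ j, (0 : ℤ) ≤ ((N j : ℤ) - a) * ((N j : ℤ) - a - 1) := fun j => by
    rcases le_or_gt (N j : ℤ) a with h | h
    · exact mul_nonneg_of_nonpos_of_nonpos (by omega) (by omega)
    · exact mul_nonneg (by omega) (by omega)
  have h2 : (0 : ℤ) ≤ ∑ j, ((N j : ℤ) - a) * ((N j : ℤ) - a - 1) := Finset.sum_nonneg fun j _ => h1 j
  have h3 : ∑ j, ((N j : ℤ) - a) * ((N j : ℤ) - a - 1) =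
      (∑ j, (N j : ℤ) ^ 2) - (2 * a + 1) * D + r * (a * (a + 1)) := by
    rw [Finset.sum_congr rfl fun j _ => show ((N j : ℤ) - a) * ((N j : ℤ) - a - 1) =
      (N j : ℤ) ^ 2 - (2 * a + 1) * N j + a * (a + 1) by ring, Finset.sum_add_distrib,
      Finset.sum_sub_distrib, ← Finset.mul_sum, Finset.sum_const, Finset.card_univ, nsmul_eq_mul, hD]
    push_cast
    ring
  rw [h3, hDs] at h2
  have h4 := mul_nonneg (Int.natCast_nonneg r) h2
  rw [hDs]
  nlinarith [h4]

theorem exists_coeff {r : ℕ} [NeZero r] {χ : G → ℂ} (hχ : IsCharacter G χ) {x : G} (hx : x ^ r = 1)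
    (V : Subgroup G) (hV : ∀ v ∈ V, Commute x v)
    (hvan : ∀ k : ℕ, ∀ v ∈ V, v ≠ 1 → χ (x ^ k * v) = 0) (j : ZMod r) :
    ∃ n : ℕ, ∑ k : ZMod r, χ (x ^ k.val) * ZMod.stdAddChar (-(j * k)) =
      ((r * Nat.card V * n : ℕ) : ℂ) := by
  classical
  haveI := Fintype.ofFinite V
  let hom : Multiplicative (ZMod r) × V →* G :=
    { toFun := fun a => x ^ (Multiplicative.toAdd a.1).val * (a.2 : G)
      map_one' := by simp
      map_mul' := fun a b => by
        have h1 : x ^ (Multiplicative.toAdd a.1 + Multiplicative.toAdd b.1).val =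
            x ^ (Multiplicative.toAdd a.1).val * x ^ (Multiplicative.toAdd b.1).val := by
          rw [← pow_add, ZMod.val_add]
          exact (pow_eq_pow_mod _ hx).symm
        have hc : Commute (x ^ (Multiplicative.toAdd b.1).val) (a.2 : G) := (hV _ a.2.2).pow_left _
        show x ^ (Multiplicative.toAdd a.1 + Multiplicative.toAdd b.1).val * ((a.2 * b.2 : V) : G) = _
        rw [h1, Subgroup.coe_mul, mul_assoc, ← mul_assoc (x ^ _) (a.2 : G), hc.eq]
        group }
  let lam : Multiplicative (ZMod r) × V →* ℂˣ :=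
    MonoidHom.toHomUnits
      { toFun := fun a => ZMod.stdAddChar (j * Multiplicative.toAdd a.1)
        map_one' := by simp
        map_mul' := fun a b => by
          show ZMod.stdAddChar (j * (Multiplicative.toAdd a.1 + Multiplicative.toAdd b.1)) = _
          rw [mul_add, AddChar.map_add_eq_mul] }
  obtain ⟨n, hn⟩ := (hχ.comp hom).exists_nat_classInner (Char.isIrrCharacter_linear lam).isCharacter
  refine ⟨n, ?_⟩
  have hrV : ((r * Nat.card V : ℕ) : ℂ) ≠ 0 :=
    Nat.cast_ne_zero.2 (Nat.mul_ne_zero (NeZero.ne r) Nat.card_pos.ne')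
  have hsum : classInner (fun a => χ (hom a)) (fun a => ((lam a : ℂˣ) : ℂ)) =
      ((r * Nat.card V : ℕ) : ℂ)⁻¹ * ∑ k : ZMod r, χ (x ^ k.val) * ZMod.stdAddChar (-(j * k)) := by
    rw [classInner, Nat.card_prod, Nat.card_congr Multiplicative.toAdd, Nat.card_zmod,
      Fintype.sum_prod_type]
    refine congrArg _ (Fintype.sum_equiv Multiplicative.toAdd _ _ fun k' => ?_)
    obtain ⟨k, rfl⟩ := Multiplicative.ofAdd.surjective k'
    rw [Finset.sum_eq_single (1 : V) (fun v _ hv => ?_) (by simp)]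
    · show χ (x ^ k.val * ((1 : V) : G)) * conj (ZMod.stdAddChar (j * k)) =
        χ (x ^ k.val) * ZMod.stdAddChar (-(j * k))
      rw [Subgroup.coe_one, mul_one, AddChar.map_neg_eq_conj]
    · show χ (x ^ k.val * (v : G)) * _ = 0
      rw [hvan _ _ v.2 (fun h => hv (Subtype.ext h)), zero_mul]
  rw [hsum] at hn
  rw [inv_mul_eq_iff_eq_mul₀ hrV] at hn
  rw [hn]
  push_cast
  ring

/-- The lower bound for the squared values on the generators. -/
theorem le_sum_norm_sq {r : ℕ} [Fact r.Prime] {χ : G → ℂ} (hχ : IsCharacter G χ) {d : ℕ}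
    (hd : χ 1 = (d : ℂ)) {x : G} (hx : x ^ r = 1) (V : Subgroup G) (hV : ∀ v ∈ V, Commute x v)
    (hvan : ∀ k : ℕ, ∀ v ∈ V, v ≠ 1 → χ (x ^ k * v) = 0) {q : ℕ} (hq : Nat.card V = q) :
    ((q ^ 2 * ((d / q) % r) * (r - (d / q) % r) : ℕ) : ℝ) ≤
      ∑ k ∈ Finset.univ.erase (0 : ZMod r), ‖χ (x ^ k.val)‖ ^ 2 := by
  classical
  haveI : NeZero r := ⟨(Fact.out : r.Prime).ne_zero⟩
  choose N hN using exists_coeff hχ hx V hV hvan
  rw [hq] at hN
  set a : ZMod r → ℂ := fun k => χ (x ^ k.val) with ha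
  have ha0 : a 0 = (d : ℂ) := by simp [ha, hd]
  have hprim := ZMod.isPrimitive_stdAddChar r
  -- the total
  have hD : (r * q * ∑ j, N j : ℕ) = r * d := by
    have h1 : ∑ j : ZMod r, ((r * q * N j : ℕ) : ℂ) = (r : ℂ) * d := by
      rw [Finset.sum_congr rfl fun j _ => (hN j).symm, Finset.sum_comm]
      rw [Finset.sum_congr rfl fun k _ => by rw [← Finset.mul_sum]]
      rw [Finset.sum_eq_single (0 : ZMod r)]
      · simp [hd, mul_comm]
      · intro k _ hk
        rw [Finset.sum_congr rfl fun j _ => by rw [← mul_neg], AddChar.sum_mulShift _ hprim,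
          if_neg (neg_ne_zero.2 hk), Nat.cast_zero, mul_zero]
      · simp
    rw [Finset.mul_sum]
    exact_mod_cast h1
  have hDd : q * ∑ j, N j = d :=
    Nat.eq_of_mul_eq_mul_left (Nat.pos_of_ne_zero (NeZero.ne r)) (by rw [← mul_assoc, hD])
  -- Parseval
  have hP : ∑ j : ZMod r, ((r * q * N j : ℕ) : ℂ) * conj ((r * q * N j : ℕ) : ℂ) =
      (r : ℂ) * ∑ k, a k * conj (a k) := by
    rw [Finset.sum_congr rfl fun j _ => by rw [← hN j, map_sum, Finset.sum_mul_sum]]
    rw [Finset.sum_comm]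
    rw [Finset.mul_sum]
    refine Finset.sum_congr rfl fun k _ => ?_
    rw [Finset.sum_comm, Finset.sum_eq_single k]
    · simp only [map_mul, ← AddChar.map_neg_eq_conj, neg_neg]
      rw [Finset.sum_congr rfl fun j _ => show a k * ZMod.stdAddChar (-(j * k)) *
        (conj (a k) * ZMod.stdAddChar (j * k)) = a k * conj (a k) * 1 by
          rw [← AddChar.map_zero_eq_one (ZMod.stdAddChar (N := r)), ← neg_add_cancel (j * k),
            AddChar.map_add_eq_mul]
          ring]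
      simp [mul_comm]
    · intro l _ hl
      simp only [map_mul, ← AddChar.map_neg_eq_conj, neg_neg]
      rw [Finset.sum_congr rfl fun j _ => show a k * ZMod.stdAddChar (-(j * k)) *
        (conj (a l) * ZMod.stdAddChar (j * l)) = a k * conj (a l) * ZMod.stdAddChar (j * (l - k)) by
          rw [show j * (l - k) = -(j * k) + j * l by ring, AddChar.map_add_eq_mul]
          ring]
      rw [← Finset.mul_sum, AddChar.sum_mulShift _ hprim, if_neg (sub_ne_zero.2 hl), Nat.cast_zero,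
        mul_zero]
    · simp
  have hPR : ((r * q : ℕ) : ℝ) ^ 2 * ∑ j, (N j : ℝ) ^ 2 = r * ∑ k, ‖a k‖ ^ 2 := by
    have h := congrArg Complex.re hP
    simp only [Complex.mul_conj', Complex.conj_natCast] at h
    rw [Finset.mul_sum]
    have hl : ∀ j, (((r * q * N j : ℕ) : ℂ) * ((r * q * N j : ℕ) : ℂ)).re = ((r * q : ℕ) : ℝ) ^ 2 * (N j : ℝ) ^ 2 :=
      fun j => by
        rw [Complex.mul_re, Complex.natCast_re, Complex.natCast_im]
        push_cast
        ring
    rw [Complex.re_sum, Finset.sum_congr rfl fun j _ => hl j] at h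
    rw [h]
    simp [Complex.re_sum, ← Complex.ofReal_pow]
  have hS : ∑ k, ‖a k‖ ^ 2 = (r : ℝ) * q ^ 2 * ∑ j, (N j : ℝ) ^ 2 := by
    have hr0 : (r : ℝ) ≠ 0 := Nat.cast_ne_zero.2 (NeZero.ne r)
    refine mul_left_cancel₀ hr0 (hPR.symm.trans ?_)
    push_cast
    ring
  rw [← Finset.add_sum_erase _ _ (Finset.mem_univ (0 : ZMod r)), ha0, Complex.norm_natCast] at hS
  have key := card_mul_sum_sq_ge N
  rw [ZMod.card] at key
  set D := ∑ j, N j with hDdef
  have hdq : d / q = D := by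
    rw [← hDd, Nat.mul_div_cancel_left _ (hq ▸ Nat.card_pos)]
  rw [hdq]
  have hs : D % r ≤ r := (Nat.mod_lt _ (Nat.pos_of_ne_zero (NeZero.ne r))).le
  have key' : ((D % r : ℕ) : ℝ) * ((r : ℝ) - ((D % r : ℕ) : ℝ)) ≤
      (r : ℝ) * ∑ j, (N j : ℝ) ^ 2 - (D : ℝ) ^ 2 := by
    have := (Int.cast_le (R := ℝ)).2 key
    simp only [Int.cast_mul, Int.cast_sub, Int.cast_natCast, Int.cast_sum, Int.cast_pow] at this
    exact this
  have hd' : (d : ℝ) = (q : ℝ) * D := by rw [← hDd]; push_cast; ring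
  have hmul := mul_le_mul_of_nonneg_left key' (sq_nonneg (q : ℝ))
  rw [hd'] at hS
  push_cast [Nat.cast_sub hs]
  nlinarith [hS, hmul]

/-- The counting form of the bound: summed over all elements of the given order. -/
theorem card_mul_le_sum_order [Fintype G] {r : ℕ} [Fact r.Prime] {f : G → ℝ} (hf : ∀ g, 0 ≤ f g)
    (hconj : ∀ g h : G, f (h * g * h⁻¹) = f g) {x : G} (hx : orderOf x = r) {n : ℕ}
    (hn : Nat.card {g : G // ∃ k : ℕ, g * x * g⁻¹ = x ^ k} ≤ n) :
    (Nat.card G : ℝ) * ∑ k ∈ Finset.univ.erase (0 : ZMod r), f (x ^ k.val) ≤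
      n * ∑ g ∈ Finset.univ.filter (fun g : G => orderOf g = r), f g := by
  classical
  haveI : NeZero r := ⟨(Fact.out : r.Prime).ne_zero⟩
  set K := Finset.univ.erase (0 : ZMod r) with hK
  have hmaps : ∀ p ∈ (Finset.univ : Finset G) ×ˢ K, p.1 * x ^ p.2.val * p.1⁻¹ ∈
      Finset.univ.filter (fun g : G => orderOf g = r) := by
    intro p hp
    have hp2 : p.2 ≠ 0 := (Finset.mem_erase.1 (Finset.mem_product.1 hp).2).1
    refine Finset.mem_filter.2 ⟨Finset.mem_univ _, ?_⟩
    have hcop : (orderOf x).Coprime p.2.val := by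
      rw [hx]
      refine (Fact.out : r.Prime).coprime_iff_not_dvd.2 fun h => hp2 ?_
      rw [← ZMod.natCast_zmod_val p.2, ZMod.natCast_eq_zero_iff]
      exact h
    rw [show orderOf (p.1 * x ^ p.2.val * p.1⁻¹) = orderOf (x ^ p.2.val) from
      orderOf_injective (MulAut.conj p.1).toMonoidHom (MulAut.conj p.1).injective _,
      hcop.orderOf_pow, hx]
  have h1 : (Nat.card G : ℝ) * ∑ k ∈ K, f (x ^ k.val) =
      ∑ p ∈ (Finset.univ : Finset G) ×ˢ K, f (p.1 * x ^ p.2.val * p.1⁻¹) := by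
    rw [Finset.sum_product]
    simp only [hconj, Finset.sum_const, Finset.card_univ, Nat.card_eq_fintype_card, nsmul_eq_mul]
  rw [h1, ← Finset.sum_fiberwise_of_maps_to hmaps, Finset.mul_sum]
  refine Finset.sum_le_sum fun y hy => ?_
  rw [Finset.sum_congr rfl fun p hp => by rw [(Finset.mem_filter.1 hp).2], Finset.sum_const,
    nsmul_eq_mul]
  refine mul_le_mul_of_nonneg_right ?_ (hf y)
  set F := ((Finset.univ : Finset G) ×ˢ K).filter (fun p => p.1 * x ^ p.2.val * p.1⁻¹ = y) with hF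
  rcases F.eq_empty_or_nonempty with hFe | ⟨p₀, hp₀⟩
  · rw [hFe]; simp
  have hp0 := Finset.mem_filter.1 hp₀
  have hinj : ∀ p ∈ F, ∀ p' ∈ F, p.1 = p'.1 → p = p' := by
    intro p hp p' hp' he
    have e := ((Finset.mem_filter.1 hp).2.trans (Finset.mem_filter.1 hp').2.symm)
    rw [he] at e
    have e2 := (pow_eq_pow_iff_modEq (x := x)).1 (mul_left_cancel (mul_right_cancel e))
    rw [hx, ← ZMod.natCast_eq_natCast_iff, ZMod.natCast_zmod_val, ZMod.natCast_zmod_val] at e2
    exact Prod.ext he e2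
  have hcard : F.card ≤ n := by
    refine le_trans ?_ hn
    rw [Nat.card_eq_fintype_card, Fintype.card_subtype]
    refine Finset.card_le_card_of_injOn (fun p => p₀.1⁻¹ * p.1) (fun p hp => ?_) (fun p hp p' hp' he => ?_)
    · have hpp := Finset.mem_filter.1 hp
      have hne : p.2 ≠ 0 := (Finset.mem_erase.1 (Finset.mem_product.1 hpp.1).2).1
      refine Finset.mem_coe.2 (Finset.mem_filter.2 ⟨Finset.mem_univ _, ?_⟩)
      obtain ⟨i, hi⟩ : ∃ i : ℕ, x = (x ^ p.2.val) ^ i := by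
        refine ⟨(p.2⁻¹).val, ?_⟩
        rw [← pow_mul, pow_eq_pow_mod _ (hx ▸ pow_orderOf_eq_one x),
          ← ZMod.val_mul, mul_inv_cancel₀ hne, ZMod.val_one, pow_one]
      refine ⟨p₀.2.val * i, ?_⟩
      rw [pow_mul]
      calc p₀.1⁻¹ * p.1 * x * (p₀.1⁻¹ * p.1)⁻¹ = p₀.1⁻¹ * (p.1 * x * p.1⁻¹) * p₀.1 := by group
        _ = p₀.1⁻¹ * (p.1 * x ^ p.2.val * p.1⁻¹) ^ i * p₀.1 := by rw [conj_pow, ← hi]
        _ = p₀.1⁻¹ * (p₀.1 * x ^ p₀.2.val * p₀.1⁻¹) ^ i * p₀.1 := by rw [hpp.2, hp0.2]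
        _ = (x ^ p₀.2.val) ^ i := by rw [conj_pow]; group
    · exact hinj p hp p' hp' (mul_left_cancel he)
  exact_mod_cast hcard

end Cfsg.Lib.MathieuBlock
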