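import Cfsg.Agent.Lib.MathieuBlock.Norm

/-!
Kernel evaluation of the normaliser certificates for the Mathieu groups M24 and M22.
-/

set_option autoImplicit false

namespace Cfsg.Lib.MathieuBlock

theorem m24Good23 : m24Norm23.Good := good_of_check (by decide +kernel)

theorem m24Good11 : m24Norm11.Good := good_of_check (by decide +kernel)

theorem m24Good7 : m24Norm7.Good := good_of_check (by decide +kernel)

theorem m24Good5 : m24Norm5.Good := good_of_check (by decide +kernel)

theorem m22Good11 : m22Norm11.Good := good_of_check (by decide +kernel)

theorem m22Good7 : m22Norm7.Good := good_of_check (by decide +kernel)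

theorem m22Good5 : m22Norm5.Good := good_of_check (by decide +kernel)

end Cfsg.Lib.MathieuBlock
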