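import Cfsg.Agent.Lib.Block.ThirdMain
import Cfsg.Agent.Lib.Block.Principal
import Cfsg.Agent.Lib.Block.DefectLocal

/-!
A group whose involution centralisers are constrained and which has no character of 2-defect zero has a
single 2-block.
-/

set_option autoImplicit false
set_option linter.style.haveILetI false
set_option linter.unusedSectionVars false

namespace Cfsg.Lib.MathieuBlock

open Cfsg Cfsg.Lib.Block

universe u

variable {G : Type u} [Group G] [Finite G] {M : Ideal AlgInt}

/-- A block is principal if its defect group contains an element of order two whose centralizer has a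
self-centralising normal 2-subgroup. -/
theorem eq_principal_of_involution (hM : IsPModular 2 M) {B : Set (IrrCharacter G)} (hB : IsPBlock M B)
    {D : Subgroup G} (hD : IsDefectGroup 2 M B D) {t : G} (ht : orderOf t = 2) (htD : t ∈ D)
    {Q : Subgroup G} (hQ : IsPGroup 2 Q) (hQt : Q ≤ Subgroup.centralizer ({t} : Set G))
    (hQn : ∀ g ∈ Subgroup.centralizer ({t} : Set G), ∀ q ∈ Q, g * q * g⁻¹ ∈ Q)
    (hQc : Subgroup.centralizer (Q : Set G) ≤ Q) : B = principalBlock M G := by
  classical
  haveI : Fact (Nat.Prime 2) := ⟨Nat.prime_two⟩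
  haveI := Fintype.ofFinite G
  set P := Subgroup.zpowers t with hPd
  set C := Subgroup.centralizer (P : Set G) with hC
  have hCt : C = Subgroup.centralizer ({t} : Set G) := by
    rw [hC, hPd, Subgroup.zpowers_eq_closure, Subgroup.centralizer_closure]
  haveI : Fintype C := Fintype.ofFinite C
  have hP : IsPGroup 2 P := IsPGroup.of_card (n := 1) (by rw [hPd, Nat.card_zpowers, ht, pow_one])
  have hPC : P ≤ C := by
    rw [hCt, hPd, Subgroup.zpowers_le, Subgroup.mem_centralizer_singleton_iff]
  have hmap : P.map (MulAut.conj (1 : G)).toMonoidHom ≤ D := by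
    rintro _ ⟨x, hx, rfl⟩
    simpa using (Subgroup.zpowers_le.2 htD) hx
  obtain ⟨ξ, hξ⟩ := (exists_brVec_iff_coeff (H := C) hM hP le_rfl
    (Subgroup.centralizer_le_normalizer _) hB).2 ((exists_coeff_iff_conj_le hM hB hD hP).2 ⟨1, hmap⟩)
  obtain ⟨χ, hχ⟩ := nonempty_of_isPBlock hM hB
  have hrel := (brRel_iff_mem hM hP le_rfl (Subgroup.centralizer_le_normalizer _) ξ hB hχ).2 hξ
  have hind := isInducedBlock_of_brRel hM hP hPC le_rfl (Subgroup.centralizer_le_normalizer _)
    (isPBlock_blockOf (M := M) ξ) (self_mem_blockOf hM ξ) hB hχ hrel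
  have hQC : Q ≤ C := hCt ▸ hQt
  haveI : (Q.subgroupOf C).Normal := ⟨fun q hq c => by
    show ((c * q * c⁻¹ : C) : G) ∈ Q
    exact hQn c (hCt ▸ c.2) q hq⟩
  have hQc' : Subgroup.centralizer ((Q.subgroupOf C : Subgroup C) : Set C) ≤ Q.subgroupOf C := by
    intro x hx
    refine hQc (Subgroup.mem_centralizer_iff.2 fun q hq => ?_)
    have h := Subgroup.mem_centralizer_iff.1 hx ⟨q, hQC hq⟩ hq
    exact congrArg Subtype.val h
  have hone := mem_principal_of_centralizer_le (Q := Q.subgroupOf C) hM (hQ.comap_subtype (K := C)) hQc' ξ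
  have hp : blockOf M (ξ : C → ℂ) = principalBlock M C :=
    isPBlock_eq_of_mem hM (isPBlock_blockOf ξ) isPBlock_principal (self_mem_blockOf hM ξ)
      (sameBlock_symm hM hone)
  rw [hp] at hind
  exact isInducedBlock_unique hM hind ((isInducedBlock_principal_iff hM
    (exists_isInducedBlock hM hP hPC le_rfl (Subgroup.centralizer_le_normalizer _) isPBlock_principal)).2 rfl)

/-- No character of 2-defect zero and constrained involution centralisers force a single 2-block. -/
theorem sameBlock_of_local (hM : IsPModular 2 M)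
    (hdz : ∀ χ : IrrCharacter G, (∀ g : G, 2 ∣ orderOf g → (χ : G → ℂ) g = 0) → False)
    (hloc : ∀ t : G, orderOf t = 2 → ∃ Q : Subgroup G, IsPGroup 2 Q ∧
      Q ≤ Subgroup.centralizer ({t} : Set G) ∧
      (∀ g ∈ Subgroup.centralizer ({t} : Set G), ∀ q ∈ Q, g * q * g⁻¹ ∈ Q) ∧
      Subgroup.centralizer (Q : Set G) ≤ Q)
    (χ ψ : IrrCharacter G) : SameBlock M (χ : G → ℂ) (ψ : G → ℂ) := by
  classical
  haveI : Fact (Nat.Prime 2) := ⟨Nat.prime_two⟩
  haveI := Fintype.ofFinite G
  have key : ∀ η : IrrCharacter G, blockOf M (η : G → ℂ) = principalBlock M G := by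
    intro η
    have hB : IsPBlock M (blockOf M (η : G → ℂ)) := isPBlock_blockOf η
    obtain ⟨D, hD⟩ := exists_defectGroup hM hB
    rcases Nat.eq_zero_or_pos (blockDefect 2 (blockOf M (η : G → ℂ))) with h0 | hpos
    · exfalso
      obtain ⟨θ, hθB, -⟩ := (blockDefect_eq_zero_iff hM hB).1 h0
      refine hdz θ fun g hg => ?_
      have h := sum_block_mul_conj_eq_zero hM (vInt_indVec hM hB) (g := 1) (h := g)
        (not_isConj_pPt_of_dvd (by simp) hg)
      rw [hθB, finsum_mem_singleton, mul_eq_zero, map_eq_zero] at h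
      rcases h with h | h
      · exact absurd h θ.2.apply_one_ne_zero
      · exact h
    · have hDp : IsPGroup 2 D := IsPGroup.of_card (card_defectGroup hM hB hD)
      haveI : Fact (Nat.Prime 2) := ⟨Nat.prime_two⟩
      have h2 : 2 ∣ Nat.card D := by
        rw [card_defectGroup hM hB hD]
        exact dvd_pow_self 2 (by omega)
      obtain ⟨t, ht⟩ := exists_prime_orderOf_dvd_card' (G := D) 2 h2
      have ht' : orderOf (t : G) = 2 := by rwa [Subgroup.orderOf_coe]
      obtain ⟨Q, hQ, hQt, hQn, hQc⟩ := hloc t ht'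
      exact eq_principal_of_involution hM hB hD ht' t.2 hQ hQt hQn hQc
  have hmem : ∀ η : IrrCharacter G, η ∈ principalBlock M G := fun η => key η ▸ self_mem_blockOf hM η
  exact sameBlock_of_mem hM isPBlock_principal (hmem χ) (hmem ψ)

end Cfsg.Lib.MathieuBlock
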