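import Cfsg.Agent.Lib.MathieuBlock.Cores
import Cfsg.Agent.Lib.MathieuBlock.Local
import Cfsg.Agent.Lib.MathieuBlock.Degree
import Cfsg.Agent.Lib.MathieuBlock.Checks
import Cfsg.Agent.Lib.Char.Central
import Cfsg.Agent.Lib.Concrete.SporMathieu

/-!
M24 and M22 have a single 2-block.
-/

set_option autoImplicit false
set_option linter.style.haveILetI false
set_option linter.unusedSectionVars false

namespace Cfsg.Lib.MathieuBlock

open Cfsg Cfsg.Lib.Char Cfsg.Lib.Concrete

section Generic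

universe u

variable {G : Type u} [Group G] [Fintype G]

theorem sq_add_sum_le {χ : G → ℂ} (hχ : IsIrrCharacter G χ) {d : ℕ} (hd : χ 1 = (d : ℂ)) (S : Finset G)
    (hS : (1 : G) ∉ S) : (d : ℝ) ^ 2 + ∑ g ∈ S, ‖χ g‖ ^ 2 ≤ (Nat.card G : ℝ) := by
  classical
  have h := classInner_irr_self hχ
  rw [classInner_self] at h
  have h' : (Nat.card G : ℝ)⁻¹ * ∑ g, ‖χ g‖ ^ 2 = 1 := by exact_mod_cast h
  have hpos : (0 : ℝ) < Nat.card G := by exact_mod_cast Nat.card_pos
  rw [inv_mul_eq_one₀ hpos.ne'] at h'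
  calc (d : ℝ) ^ 2 + ∑ g ∈ S, ‖χ g‖ ^ 2 = ∑ g ∈ insert 1 S, ‖χ g‖ ^ 2 := by
        rw [Finset.sum_insert hS, hd, Complex.norm_natCast]
    _ ≤ ∑ g, ‖χ g‖ ^ 2 := Finset.sum_le_sum_of_subset_of_nonneg (Finset.subset_univ _)
        (fun g _ _ => sq_nonneg _)
    _ = (Nat.card G : ℝ) := h'.symm

theorem card_dvd_degree {χ : G → ℂ} (hχ : IsCharacter G χ) {d : ℕ} (hd : χ 1 = (d : ℂ)) (S : Subgroup G)
    (hS : ∀ g ∈ S, g ≠ 1 → χ g = 0) : Nat.card S ∣ d := by
  classical
  obtain ⟨n, hn⟩ := (hχ.comp S.subtype).exists_nat_classInner (isCharacter_one (G := S))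
  simp only [classInner, map_one, mul_one, Subgroup.subtype_apply] at hn
  rw [Finset.sum_eq_single (1 : S) (fun g _ hg => hS g g.2 fun e => hg (Subtype.ext e))
    (fun h => absurd (Finset.mem_univ _) h)] at hn
  rw [OneMemClass.coe_one, hd, inv_mul_eq_iff_eq_mul₀ (card_cast_ne_zero (G := S))] at hn
  exact ⟨n, by exact_mod_cast hn⟩

/-- The sum of the squared values on the elements of a given order. -/
noncomputable def orderSum (χ : G → ℂ) (r : ℕ) : ℝ :=
  ∑ g ∈ Finset.univ.filter (fun g : G => orderOf g = r), ‖χ g‖ ^ 2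

theorem orderSum_ge {r : ℕ} [Fact r.Prime] {χ : G → ℂ} (hχ : IsCharacter G χ) (hr : Odd r)
    (hvan : ∀ g : G, 2 ∣ orderOf g → χ g = 0) {d : ℕ} (hd : χ 1 = (d : ℂ)) {x : G} (hx : orderOf x = r)
    (V : Subgroup G) (hV : ∀ v ∈ V, Commute x v) (hV2 : ∀ v ∈ V, v * v = 1) {q : ℕ} (hq : Nat.card V = q)
    {n M : ℕ} (hn : Nat.card {g : G // ∃ k : ℕ, g * x * g⁻¹ = x ^ k} ≤ n) (hM : M * n = Nat.card G) :
    ((M * (q ^ 2 * ((d / q) % r) * (r - (d / q) % r)) : ℕ) : ℝ) ≤ orderSum χ r := by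
  classical
  have h1 := le_sum_norm_sq hχ hd (show x ^ r = 1 from hx ▸ pow_orderOf_eq_one x) V hV
    (fun k v hv hv1 => hvan _ (by
      by_contra hodd
      apply hv1
      have ho : Odd (orderOf (x ^ k * v) * r) :=
        (Nat.odd_iff.2 (Nat.two_dvd_ne_zero.1 hodd)).mul hr
      obtain ⟨j, hj⟩ := ho
      have h : (x ^ k * v) ^ (orderOf (x ^ k * v) * r) = 1 := by
        rw [pow_mul, pow_orderOf_eq_one, one_pow]
      rw [((hV v hv).pow_left k).mul_pow, ← pow_mul, mul_comm k, pow_mul, mul_comm _ r, pow_mul x,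
        ← hx, pow_orderOf_eq_one, one_pow, one_pow, one_mul] at h
      rw [hx] at h
      rw [mul_comm, hj, pow_succ, pow_mul, pow_two, hV2 v hv, one_pow, one_mul] at h
      exact h)) hq
  have h2 := card_mul_le_sum_order (f := fun g => ‖χ g‖ ^ 2) (fun g => sq_nonneg _)
    (fun g h => by rw [hχ.conj_invariant]) hx hn
  have hn0 : (0 : ℝ) < n := by
    have : 0 < M * n := hM ▸ Nat.card_pos
    exact_mod_cast Nat.pos_of_mul_pos_left this
  rw [← hM, Nat.cast_mul] at h2
  rw [show orderSum χ r = ∑ g ∈ Finset.univ.filter (fun g : G => orderOf g = r), ‖χ g‖ ^ 2 from rfl]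
  have h3 := le_of_mul_le_mul_left (by linarith : (n : ℝ) * ((M : ℝ) *
    ∑ k ∈ Finset.univ.erase (0 : ZMod r), ‖χ (x ^ k.val)‖ ^ 2) ≤ (n : ℝ) * ∑ g ∈ Finset.univ.filter (fun g : G => orderOf g = r), ‖χ g‖ ^ 2) hn0
  refine le_trans ?_ h3
  rw [Nat.cast_mul]
  exact mul_le_mul_of_nonneg_left h1 (Nat.cast_nonneg _)

theorem orderSum_union (χ : G → ℂ) (l : List ℕ) (hl : l.Nodup) :
    ∑ g ∈ Finset.univ.filter (fun g : G => orderOf g ∈ l), ‖χ g‖ ^ 2 = (l.map (orderSum χ)).sum := by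
  classical
  rw [← List.sum_toFinset _ hl]
  unfold orderSum
  rw [← Finset.sum_biUnion]
  · refine Finset.sum_congr (Finset.ext fun g => ?_) fun _ _ => rfl
    simp
  · intro a _ b _ hab
    exact Finset.disjoint_left.2 fun g hga hgb =>
      hab ((Finset.mem_filter.1 hga).2.symm.trans (Finset.mem_filter.1 hgb).2)

/-- The four elements generated by two commuting involutions. -/
def fourGroup (a b : G) (ha : a * a = 1) (hb : b * b = 1) (hab : Commute a b) : Subgroup G where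
  carrier := {1, a, b, a * b}
  one_mem' := Set.mem_insert _ _
  mul_mem' := by
    intro u v hu hv
    simp only [Set.mem_insert_iff, Set.mem_singleton_iff] at hu hv ⊢
    have e1 : b * a = a * b := hab.eq.symm
    have e2 : a * (a * b) = b := by rw [← mul_assoc, ha, one_mul]
    have e3 : a * b * b = a := by rw [mul_assoc, hb, mul_one]
    have e4 : b * (a * b) = a := by rw [← mul_assoc, e1, e3]
    have e5 : a * b * a = b := by rw [mul_assoc, e1, e2]
    have e6 : a * b * (a * b) = 1 := by rw [mul_assoc, e4, ha]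
    rcases hu with rfl | rfl | rfl | rfl <;> rcases hv with rfl | rfl | rfl | rfl <;>
      simp [ha, hb, e1, e2, e3, e4, e5, e6]
  inv_mem' := by
    intro u hu
    simp only [Set.mem_insert_iff, Set.mem_singleton_iff] at hu ⊢
    have ia : a⁻¹ = a := inv_eq_of_mul_eq_one_left ha
    have ib : b⁻¹ = b := inv_eq_of_mul_eq_one_left hb
    rcases hu with rfl | rfl | rfl | rfl <;> simp [ia, ib, hab.eq]

theorem mem_fourGroup {a b : G} {ha : a * a = 1} {hb : b * b = 1} {hab : Commute a b} {v : G} :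
    v ∈ fourGroup a b ha hb hab ↔ v = 1 ∨ v = a ∨ v = b ∨ v = a * b := Iff.rfl

theorem card_fourGroup {a b : G} (ha : a * a = 1) (hb : b * b = 1) (hab : Commute a b) (ha1 : a ≠ 1)
    (hb1 : b ≠ 1) (hne : a ≠ b) : Nat.card (fourGroup a b ha hb hab) = 4 := by
  classical
  have hs : ((fourGroup a b ha hb hab : Subgroup G) : Set G) = (({1, a, b, a * b} : Finset G) : Set G) := by
    ext v
    simp [mem_fourGroup]
  have hab1 : a * b ≠ 1 := fun h => hne (by
    rw [← mul_one a, ← hb, ← mul_assoc, h, one_mul])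
  rw [← SetLike.coe_sort_coe, Nat.card_congr (Equiv.setCongr hs), Nat.card_coe_set_eq, Set.ncard_coe_finset,
    Finset.card_insert_of_notMem (by simp [ha1.symm, hb1.symm, hab1.symm]),
    Finset.card_insert_of_notMem (by simp [hne, hb1]),
    Finset.card_insert_of_notMem (by simp [ha1]), Finset.card_singleton]

end Generic

section Transfer

variable {H : Subgroup (Equiv.Perm GolayPt)}

theorem exists_subgroup_core {t : H} (ht : orderOf t = 2) (hH : H ≤ M24)
    (hQH : ∀ Q : Subgroup (Equiv.Perm GolayPt), Q ≤ M24 →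
      ((∃ x, (t : Equiv.Perm GolayPt) x = x) → ∀ x, (t : Equiv.Perm GolayPt) x = x → ∀ q ∈ Q, q x = x) →
      Q ≤ H) :
    ∃ Q : Subgroup H, IsPGroup 2 Q ∧ Q ≤ Subgroup.centralizer ({t} : Set H) ∧
      (∀ g ∈ Subgroup.centralizer ({t} : Set H), ∀ q ∈ Q, g * q * g⁻¹ ∈ Q) ∧
      Subgroup.centralizer (Q : Set H) ≤ Q := by
  obtain ⟨Q, hQM, hsq, hcm, hn, hc, hfix⟩ := exists_core (hH t.2) (by rwa [Subgroup.orderOf_coe])
  have hQH' := hQH Q hQM hfix
  refine ⟨Q.subgroupOf H, fun q => ⟨1, ?_⟩, fun q hq => ?_, fun g hg q hq => ?_, fun g hg => ?_⟩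
  · refine Subtype.ext (Subtype.ext ?_)
    rw [pow_one, pow_two]
    exact hsq _ q.2
  · rw [Subgroup.mem_centralizer_singleton_iff]
    exact Subtype.ext (hcm _ hq).symm
  · have h := congrArg Subtype.val (Subgroup.mem_centralizer_singleton_iff.1 hg)
    exact hn g (hH g.2) h q hq
  · refine hc g (hH g.2) fun q hq => ?_
    exact congrArg Subtype.val (Subgroup.mem_centralizer_iff.1 hg ⟨q, hQH' hq⟩ hq)

variable [Fintype H]

/-- The bound obtained from one normaliser certificate. -/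
theorem orderSum_ge_cert {c : NormCert} (hc : c.Good) (hH : H = fixB c.k0) [Fact c.r.Prime] (hr : Odd c.r)
    {χ : H → ℂ} (hχ : IsCharacter H χ) (hvan : ∀ g : H, 2 ∣ orderOf g → χ g = 0) {d : ℕ}
    (hd : χ 1 = (d : ℂ)) {q M : ℕ} (hM : M * c.n = Nat.card H)
    (hq : (c.invs = [] ∧ q = 1) ∨ (∃ a, c.invs = [a] ∧ q = 2) ∨ (∃ a b, c.invs = [a, b] ∧ q = 4)) :
    ((M * (q ^ 2 * ((d / q) % c.r) * (c.r - (d / q) % c.r)) : ℕ) : ℝ) ≤ orderSum χ c.r := by
  obtain ⟨x, hxM, hxr, hxp, hx1⟩ := exists_x hc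
  have hord : orderOf (⟨x, hH ▸ hxM⟩ : H) = c.r := by
    rw [Subgroup.orderOf_mk]
    exact orderOf_eq_prime hxp hx1
  have hn := card_norm_le hc H hH.le ⟨x, hH ▸ hxM⟩ hxr
    (hord ▸ pow_orderOf_eq_one _) (fun h => hx1 (congrArg Subtype.val h))
  rcases hq with ⟨-, rfl⟩ | ⟨a, ha, rfl⟩ | ⟨a, b, hab, rfl⟩
  · exact orderSum_ge hχ hr hvan hd hord ⊥ (fun v hv => by rw [Subgroup.mem_bot.1 hv]; exact Commute.one_right _)
      (fun v hv => by rw [Subgroup.mem_bot.1 hv, one_mul]) Subgroup.card_bot hn hM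
  · obtain ⟨u, huM, -, hu2, hu1, hxu⟩ := exists_inv hc hxr (v := a) (by simp [ha])
    let u' : H := ⟨u, hH ▸ huM⟩
    have hu2' : u' * u' = 1 := Subtype.ext hu2
    have hordu : orderOf u' = 2 := orderOf_eq_prime (by rw [pow_two]; exact hu2')
      fun h => hu1 (congrArg Subtype.val h)
    refine orderSum_ge hχ hr hvan hd hord (Subgroup.zpowers u') (fun v hv => ?_) (fun v hv => ?_)
      (by rw [Nat.card_zpowers, hordu]) hn hM
    · obtain ⟨k, rfl⟩ := Subgroup.mem_zpowers_iff.1 hv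
      exact (show Commute (⟨x, hH ▸ hxM⟩ : H) u' from Subtype.ext hxu).zpow_right k
    · obtain ⟨k, rfl⟩ := Subgroup.mem_zpowers_iff.1 hv
      rw [← (Commute.refl u').mul_zpow, hu2', one_zpow]
  · obtain ⟨u, huM, hur, hu2, hu1, hxu⟩ := exists_inv hc hxr (v := a) (by simp [hab])
    obtain ⟨w, hwM, hwr, hw2, hw1, hxw⟩ := exists_inv hc hxr (v := b) (by simp [hab])
    obtain ⟨-, -, -, hcomm⟩ := hc.invs a (by simp [hab])
    obtain ⟨i, hi, hne⟩ := hc.two a b hab
    let u' : H := ⟨u, hH ▸ huM⟩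
    let w' : H := ⟨w, hH ▸ hwM⟩
    have huw : Commute u' w' := Subtype.ext (Equiv.ext fun y => gidx_injective (Fin.ext (by
      show (gidx (u (w y))).val = (gidx (w (u y))).val
      rw [hur, hwr, hwr, hur]
      exact hcomm b (by simp [hab]) _ (mem_bits24.2 (gidx y).isLt))))
    have hu2' : u' * u' = 1 := Subtype.ext hu2
    have hw2' : w' * w' = 1 := Subtype.ext hw2
    refine orderSum_ge hχ hr hvan hd hord (fourGroup u' w' hu2' hw2' huw) (fun v hv => ?_) (fun v hv => ?_)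
      (card_fourGroup hu2' hw2' huw (fun h => hu1 (congrArg Subtype.val h))
        (fun h => hw1 (congrArg Subtype.val h)) (fun h => hne ?_)) hn hM
    · have cu : Commute (⟨x, hH ▸ hxM⟩ : H) u' := Subtype.ext hxu
      have cw : Commute (⟨x, hH ▸ hxM⟩ : H) w' := Subtype.ext hxw
      rcases mem_fourGroup.1 hv with rfl | rfl | rfl | rfl
      exacts [Commute.one_right _, cu, cw, cu.mul_right cw]
    · rcases mem_fourGroup.1 hv with rfl | rfl | rfl | rfl
      exacts [one_mul 1, hu2', hw2', by rw [huw.symm.mul_mul_mul_comm, hu2', hw2', one_mul]]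
    · have e : u = w := congrArg Subtype.val h
      rw [← hur.apply ⟨i, mem_bits24.1 hi⟩, ← hwr.apply ⟨i, mem_bits24.1 hi⟩, e]

end Transfer

theorem m24_eq_fixB : M24 = fixB 0 :=
  le_antisymm (fun _ hg => ⟨hg, fun _ hj => absurd hj (Nat.not_lt_zero _)⟩) fun _ hg => hg.1

theorem bp_zero_one : bp 0 = none ∧ bp 1 = some 0 := by decide +kernel

theorem sporM22_eq_fixB : Spor.M22 = fixB 2 := by
  refine le_antisymm ?_ ?_
  · intro g hg
    refine ⟨hg.1.1, fun j hj => ?_⟩
    rcases (by omega : j = 0 ∨ j = 1) with rfl | rfl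
    · rw [bp_zero_one.1]; exact hg.1.2
    · rw [bp_zero_one.2]; exact hg.2
  · intro g hg
    refine ⟨⟨hg.1, ?_⟩, ?_⟩
    · have h := hg.2 0 (by omega)
      rwa [bp_zero_one.1] at h
    · have h := hg.2 1 (by omega)
      rwa [bp_zero_one.2] at h

theorem degree_basic {G : Type*} [Group G] [Fintype G] {χ : G → ℂ} (hχ : IsIrrCharacter G χ)
    (hvan : ∀ g : G, 2 ∣ orderOf g → χ g = 0) {a m : ℕ} (hcard : Nat.card G = 2 ^ a * m) :
    ∃ k : ℕ, χ 1 = ((2 ^ a * k : ℕ) : ℂ) ∧ k ∣ m ∧ 0 < k ∧ (2 ^ a * k) ^ 2 ≤ Nat.card G := by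
  classical
  obtain ⟨d, -, hd⟩ := hχ.exists_degree
  haveI : Fact (Nat.Prime 2) := ⟨Nat.prime_two⟩
  obtain ⟨S, hS⟩ := Sylow.exists_subgroup_card_pow_prime 2 (show 2 ^ a ∣ Nat.card G from ⟨m, hcard⟩)
  obtain ⟨k, rfl⟩ : 2 ^ a ∣ d := hS ▸ card_dvd_degree hχ.isCharacter hd S fun g hg hg1 => by
    refine hvan g ?_
    have hdvd : orderOf g ∣ 2 ^ a := hS ▸ S.orderOf_dvd_natCard hg
    obtain ⟨i, -, hi⟩ := (Nat.dvd_prime_pow Nat.prime_two).1 hdvd
    rcases i with _ | i
    · exact absurd (orderOf_eq_one_iff.1 (by simpa using hi)) hg1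
    · exact hi ▸ dvd_pow_self 2 (Nat.succ_ne_zero i)
  refine ⟨k, hd, ?_, Nat.pos_of_ne_zero fun h => hχ.apply_one_ne_zero (by rw [hd, h]; simp), ?_⟩
  · exact Nat.dvd_of_mul_dvd_mul_left (Nat.two_pow_pos a) (hcard ▸ degree_dvd_card hχ hd)
  · have h := sq_add_sum_le hχ hd ∅ (Finset.notMem_empty _)
    rw [Finset.sum_empty, add_zero] at h
    exact_mod_cast h

theorem m24_no_vanishing (χ : IrrCharacter M24)
    (hvan : ∀ g : M24, 2 ∣ orderOf g → (χ : M24 → ℂ) g = 0) : False := by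
  classical
  haveI := Fintype.ofFinite M24
  obtain ⟨k, hd, hk, hk0, hsq⟩ := degree_basic χ.2 hvan (a := 10) (m := 239085) card_M24
  rw [card_M24] at hsq
  have hk15 : k ≤ 15 := by nlinarith
  haveI : Fact (Nat.Prime 23) := ⟨by norm_num⟩
  haveI : Fact (Nat.Prime 11) := ⟨by norm_num⟩
  haveI : Fact (Nat.Prime 7) := ⟨by norm_num⟩
  haveI : Fact (Nat.Prime 5) := ⟨by norm_num⟩
  haveI : Fact (m24Norm23.r.Prime) := ⟨by show Nat.Prime 23; norm_num⟩
  haveI : Fact (m24Norm11.r.Prime) := ⟨by show Nat.Prime 11; norm_num⟩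
  haveI : Fact (m24Norm7.r.Prime) := ⟨by show Nat.Prime 7; norm_num⟩
  haveI : Fact (m24Norm5.r.Prime) := ⟨by show Nat.Prime 5; norm_num⟩
  have b23 := orderSum_ge_cert m24Good23 m24_eq_fixB (by decide) χ.2.isCharacter hvan hd
    (q := 1) (M := 967680) (by rw [card_M24]; rfl) (Or.inl ⟨rfl, rfl⟩)
  have b11 := orderSum_ge_cert m24Good11 m24_eq_fixB (by decide) χ.2.isCharacter hvan hd
    (q := 1) (M := 2225664) (by rw [card_M24]; rfl) (Or.inl ⟨rfl, rfl⟩)
  have b7 := orderSum_ge_cert m24Good7 m24_eq_fixB (by decide) χ.2.isCharacter hvan hd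
    (q := 2) (M := 1943040) (by rw [card_M24]; rfl) (Or.inr (Or.inl ⟨_, rfl, rfl⟩))
  have b5 := orderSum_ge_cert m24Good5 m24_eq_fixB (by decide) χ.2.isCharacter hvan hd
    (q := 4) (M := 1020096) (by rw [card_M24]; rfl) (Or.inr (Or.inr ⟨_, _, rfl, rfl⟩))
  rw [show m24Norm23.r = 23 from rfl] at b23
  rw [show m24Norm11.r = 11 from rfl] at b11
  rw [show m24Norm7.r = 7 from rfl] at b7
  rw [show m24Norm5.r = 5 from rfl] at b5
  have htot := sq_add_sum_le χ.2 hd (Finset.univ.filter fun g : M24 => orderOf g ∈ [23, 11, 7, 5]) (by simp)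
  rw [orderSum_union _ _ (by decide), card_M24] at htot
  simp only [List.map_cons, List.map_nil, List.sum_cons, List.sum_nil, add_zero] at htot
  interval_cases k <;> first | (revert hk; decide) | (norm_num at b23 b11 b7 b5 htot; linarith)

theorem m22_no_vanishing (χ : IrrCharacter Spor.M22)
    (hvan : ∀ g : Spor.M22, 2 ∣ orderOf g → (χ : Spor.M22 → ℂ) g = 0) : False := by
  classical
  haveI := Fintype.ofFinite Spor.M22
  obtain ⟨k, hd, hk, hk0, hsq⟩ := degree_basic χ.2 hvan (a := 7) (m := 3465) card_sporM22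
  rw [card_sporM22] at hsq
  have hk5 : k ≤ 5 := by nlinarith
  haveI : Fact (Nat.Prime 11) := ⟨by norm_num⟩
  haveI : Fact (Nat.Prime 7) := ⟨by norm_num⟩
  haveI : Fact (Nat.Prime 5) := ⟨by norm_num⟩
  haveI : Fact (Nat.Prime 3) := ⟨by norm_num⟩
  haveI : Fact (m22Norm11.r.Prime) := ⟨by show Nat.Prime 11; norm_num⟩
  haveI : Fact (m22Norm7.r.Prime) := ⟨by show Nat.Prime 7; norm_num⟩
  haveI : Fact (m22Norm5.r.Prime) := ⟨by show Nat.Prime 5; norm_num⟩
  have b11 := orderSum_ge_cert m22Good11 sporM22_eq_fixB (by decide) χ.2.isCharacter hvan hd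
    (q := 1) (M := 8064) (by rw [card_sporM22]; rfl) (Or.inl ⟨rfl, rfl⟩)
  have b7 := orderSum_ge_cert m22Good7 sporM22_eq_fixB (by decide) χ.2.isCharacter hvan hd
    (q := 1) (M := 21120) (by rw [card_sporM22]; rfl) (Or.inl ⟨rfl, rfl⟩)
  have b5 := orderSum_ge_cert m22Good5 sporM22_eq_fixB (by decide) χ.2.isCharacter hvan hd
    (q := 1) (M := 22176) (by rw [card_sporM22]; rfl) (Or.inl ⟨rfl, rfl⟩)
  rw [show m22Norm11.r = 11 from rfl] at b11
  rw [show m22Norm7.r = 7 from rfl] at b7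
  rw [show m22Norm5.r = 5 from rfl] at b5
  set S := Finset.univ.filter fun g : Spor.M22 => orderOf g ∈ [11, 7, 5] with hS
  have htot := sq_add_sum_le χ.2 hd S (by simp [hS])
  rw [hS, orderSum_union _ _ (by decide), card_sporM22] at htot
  simp only [List.map_cons, List.map_nil, List.sum_cons, List.sum_nil, add_zero] at htot
  obtain ⟨T, hT⟩ := Sylow.exists_subgroup_card_pow_prime 3
    (show 3 ^ 2 ∣ Nat.card Spor.M22 from ⟨49280, card_sporM22⟩)
  have h9 : k = 3 → False := fun hk3 => by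
    subst hk3
    have h := card_dvd_degree χ.2.isCharacter hd T fun g hg hg1 => by
      by_contra hne
      obtain ⟨i, -, hi⟩ := (Nat.dvd_prime_pow Nat.prime_three).1 (hT ▸ T.orderOf_dvd_natCard hg)
      have hnS : g ∉ S := by
        simp only [hS, Finset.mem_filter, List.mem_cons, List.not_mem_nil, or_false, not_and, hi]
        intro _
        rcases i with _ | i
        · decide
        · rintro (e | e | e) <;> · have : (3 : ℕ) ∣ 3 ^ (i + 1) := dvd_pow_self 3 (by omega)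
                                   rw [e] at this
                                   norm_num at this
      have h2 := sq_add_sum_le χ.2 hd (insert g S)
        (by simp [hS, hg1.symm])
      rw [Finset.sum_insert hnS, hS, orderSum_union _ _ (by decide), card_sporM22] at h2
      simp only [List.map_cons, List.map_nil, List.sum_cons, List.sum_nil, add_zero] at h2
      have hp : 0 < ‖(χ : Spor.M22 → ℂ) g‖ ^ 2 := by positivity
      norm_num at b11 b7 b5 h2
      linarith
    rw [hT] at h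
    exact absurd h (by decide)
  interval_cases k <;> first | exact h9 rfl | (revert hk; decide) | (norm_num at b11 b7 b5 htot; linarith)

/-- M24 has a single 2-block. -/
theorem m24_sameBlock {M : Ideal AlgInt} (hM : IsPModular 2 M) (χ ψ : IrrCharacter M24) :
    SameBlock M (χ : M24 → ℂ) (ψ : M24 → ℂ) :=
  sameBlock_of_local hM m24_no_vanishing
    (fun _ ht => exists_subgroup_core ht le_rfl fun _ h _ => h) χ ψ

/-- M22 has a single 2-block. -/
theorem m22_sameBlock {M : Ideal AlgInt} (hM : IsPModular 2 M) (χ ψ : IrrCharacter Spor.M22) :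
    SameBlock M (χ : Spor.M22 → ℂ) (ψ : Spor.M22 → ℂ) :=
  sameBlock_of_local hM m22_no_vanishing
    (fun t ht => exists_subgroup_core ht sporM22_le fun Q hQ hfix q hq => by
      have h0 : (t : Equiv.Perm GolayPt) none = none := t.2.1.2
      have h1 : (t : Equiv.Perm GolayPt) (some 0) = some 0 := t.2.2
      exact ⟨⟨hQ hq, hfix ⟨_, h0⟩ _ h0 q hq⟩, hfix ⟨_, h0⟩ _ h1 q hq⟩) χ ψ

end Cfsg.Lib.MathieuBlock
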