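import Mathlib

/-!
Certificate data for the 2-blocks of M24 and M22.
-/

set_option autoImplicit false

namespace Cfsg.Lib.MathieuBlock

/-- Data for the normaliser of a subgroup of prime order and a commuting 2-subgroup. -/
structure NormCert where
  /-- number of base points fixed by the group -/
  k0 : ℕ
  /-- the prime -/
  r : ℕ
  /-- bound for the normaliser -/
  n : ℕ
  /-- the element -/
  x : ℕ
  /-- its inverse -/
  xi : ℕ
  /-- linked base points -/
  links : List (ℕ × ℕ × ℕ)
  /-- commuting involutions with inverses -/
  invs : List ℕ

/-- The tetrads of the sextet of the fixed-point-free representative. -/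
def sextetRep : List ℕ := [196632, 266432, 1049094, 2623744, 4218912, 8422401]

/-- The certificate at the prime 23. -/
def m24Norm23 : NormCert where
  k0 := 0
  r := 23
  n := 253
  x := 515967037258450880711323984018854146
  xi := 596062607839549347602375724160582055
  links := [(1, 0, 12), (2, 0, 5), (3, 0, 13), (4, 0, 20), (5, 0, 18), (6, 0, 16)]
  invs := []

/-- The certificate at the prime 11. -/
def m24Norm11 : NormCert where
  k0 := 0
  r := 11
  n := 110
  x := 467888001380929184081092008088788261
  xi := 92911719867663864037995270950260076
  links := [(1, 0, 7), (2, 0, 2), (3, 0, 10), (4, 0, 9), (5, 0, 5), (6, 0, 8)]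
  invs := []

/-- The certificate at the prime 7. -/
def m24Norm7 : NormCert where
  k0 := 0
  r := 7
  n := 126
  x := 17253505251543142160872346761596645
  xi := 65524365020968686770691994071152759
  links := [(1, 0, 1), (2, 0, 6), (3, 0, 4), (4, 0, 5), (6, 0, 2)]
  invs := [542174918411461105164667169746272964]

/-- The certificate at the prime 5. -/
def m24Norm5 : NormCert where
  k0 := 0
  r := 5
  n := 240
  x := 217533149236698542551197897095994464
  xi := 106625446232446633829541119685332128
  links := [(1, 1, 1), (2, 0, 2), (3, 0, 4), (4, 0, 3), (6, 0, 1)]
  invs := [170262551072039269101754137112682059, 352185158424529763055745973316334222]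

/-- The certificate at the prime 11. -/
def m22Norm11 : NormCert where
  k0 := 2
  r := 11
  n := 55
  x := 982096392843242297292221778597289120
  xi := 971515047589026928683184460147076192
  links := [(0, 0, 1), (1, 1, 1), (3, 2, 5), (4, 2, 10), (5, 2, 9), (6, 2, 1)]
  invs := []

/-- The certificate at the prime 7. -/
def m22Norm7 : NormCert where
  k0 := 2
  r := 7
  n := 21
  x := 980352102302462804730709083522375744
  xi := 968871317692933986284233661991978080
  links := [(0, 0, 1), (1, 1, 1), (3, 2, 1), (4, 2, 6), (5, 2, 3), (6, 2, 4)]
  invs := []

/-- The certificate at the prime 5. -/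
def m22Norm5 : NormCert where
  k0 := 2
  r := 5
  n := 20
  x := 963555338147283211837345722057954752
  xi := 967723651839470915443066739472403616
  links := [(0, 0, 1), (1, 1, 1), (3, 2, 3), (4, 2, 2), (6, 2, 4)]
  invs := []

end Cfsg.Lib.MathieuBlock
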