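import Cfsg.Agent.Lib.MathieuBlock.Enum
import Cfsg.Agent.Lib.MathieuBlock.Data
import Cfsg.Agent.Lib.MathieuBlock.Degree

/-!
Normalisers of subgroups of prime order in M24 and in its two-point stabiliser.
-/

set_option autoImplicit false
set_option linter.style.haveILetI false
set_option linter.unusedSectionVars false

namespace Cfsg.Lib.MathieuBlock

open Cfsg Cfsg.Lib.Concrete

/-- The condition on the image of a base point of a normalising element. -/
def NormCert.ok (c : NormCert) (k j : ℕ) (f : ℕ → ℕ) : Bool :=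
  (!Nat.blt j c.k0 || Nat.beq (f j) (bAt j)) &&
    c.links.all fun t =>
      !Nat.beq t.1 j || !Nat.ble t.2.1 j || Nat.beq (f j) (piter c.x (Nat.mod (Nat.mul k t.2.2) c.r) (f t.2.1))

/-- The list of elements conjugating the element to the `k`-th power. -/
def NormCert.list (c : NormCert) (k : ℕ) : List ℕ :=
  (enumAll (c.ok k)).filter fun g =>
    bits24.all fun i => Nat.beq (pget g (pget c.x i)) (piter c.x k (pget g i))

/-- The checks of a normaliser certificate. -/
def NormCert.check (c : NormCert) : Bool :=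
  elemCheck c.k0 16777215 c.x c.xi && Nat.blt 1 c.r && Nat.blt c.k0 3 &&
    (bits24.all fun i => Nat.beq (piter c.x c.r i) i) &&
    (bits24.any fun i => !Nat.beq (pget c.x i) i) &&
    (c.links.all fun t => Nat.blt t.1 7 && Nat.ble t.2.1 t.1 && Nat.beq (piter c.x t.2.2 (bAt t.2.1)) (bAt t.1)) &&
    (c.invs.all fun v => elemCheck c.k0 16777215 v v &&
      (bits24.any fun i => !Nat.beq (pget v i) i) &&
      (bits24.all fun i => Nat.beq (pget v (pget c.x i)) (pget c.x (pget v i))) &&
      c.invs.all fun w => bits24.all fun i => Nat.beq (pget v (pget w i)) (pget w (pget v i))) &&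
    (match c.invs with
      | [a, b] => bits24.any fun i => !Nat.beq (pget a i) (pget b i)
      | _ => true) &&
    Nat.ble ((List.range c.r).flatMap fun k => if Nat.beq k 0 then [] else c.list k).length c.n

theorem piter_rep {g : Equiv.Perm GolayPt} {p : ℕ} (hg : Rep g p) (n : ℕ) (y : GolayPt) :
    (gidx ((g ^ n) y)).val = piter p n (gidx y).val := by
  induction n generalizing y with
  | zero => simp [piter]
  | succ n ih => rw [pow_succ', Equiv.Perm.mul_apply, hg, ih]; rfl

/-- The part of a check used by the soundness lemmas. -/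
structure NormCert.Good (c : NormCert) : Prop where
  elem : elemCheck c.k0 16777215 c.x c.xi = true
  one_lt : 1 < c.r
  k0_lt : c.k0 < 3
  power : ∀ i ∈ bits24, piter c.x c.r i = i
  nontriv : ∃ i ∈ bits24, pget c.x i ≠ i
  links : ∀ t ∈ c.links, t.1 < 7 ∧ t.2.1 ≤ t.1 ∧ piter c.x t.2.2 (bAt t.2.1) = bAt t.1
  invs : ∀ v ∈ c.invs, elemCheck c.k0 16777215 v v = true ∧ (∃ i ∈ bits24, pget v i ≠ i) ∧
    (∀ i ∈ bits24, pget v (pget c.x i) = pget c.x (pget v i)) ∧
    ∀ w ∈ c.invs, ∀ i ∈ bits24, pget v (pget w i) = pget w (pget v i)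
  two : ∀ a b, c.invs = [a, b] → ∃ i ∈ bits24, pget a i ≠ pget b i
  count : ((List.range c.r).flatMap fun k => if Nat.beq k 0 then [] else c.list k).length ≤ c.n

theorem good_of_check {c : NormCert} (h : c.check = true) : c.Good := by
  simp only [NormCert.check, Bool.and_eq_true, List.all_eq_true, List.any_eq_true, Nat.beq_eq,
    Bool.not_eq_true', Nat.ble_eq] at h
  obtain ⟨⟨⟨⟨⟨⟨⟨⟨h1, h2⟩, h3⟩, h4⟩, h5⟩, h6⟩, h7⟩, h8⟩, h9⟩ := h
  refine ⟨h1, Nat.lt_of_succ_le (Nat.le_of_ble_eq_true h2), Nat.lt_of_succ_le (Nat.le_of_ble_eq_true h3),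
    h4, ?_, fun t ht => ?_, fun v hv => ?_, fun a b hab => ?_, by simpa [Nat.beq_eq] using h9⟩
  · obtain ⟨i, hi, hne⟩ := h5
    exact ⟨i, hi, fun e => by rw [e, Nat.beq_refl] at hne; exact absurd hne (by decide)⟩
  · obtain ⟨⟨a, b⟩, d⟩ := h6 t ht
    exact ⟨Nat.lt_of_succ_le (Nat.le_of_ble_eq_true a), b, d⟩
  · obtain ⟨⟨⟨a, ⟨i, hi, hne⟩⟩, d⟩, e⟩ := h7 v hv
    exact ⟨a, ⟨i, hi, fun e => by rw [e, Nat.beq_refl] at hne; exact absurd hne (by decide)⟩, d, e⟩
  · rw [hab] at h8
    simp only [List.any_eq_true, Bool.not_eq_true'] at h8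
    obtain ⟨i, hi, hne⟩ := h8
    exact ⟨i, hi, fun e => by rw [e, Nat.beq_refl] at hne; exact absurd hne (by decide)⟩

variable {c : NormCert}

theorem exists_x (hc : c.Good) : ∃ x : Equiv.Perm GolayPt, x ∈ fixB c.k0 ∧ Rep x c.x ∧ x ^ c.r = 1 ∧ x ≠ 1 := by
  obtain ⟨x, hx, hr, -⟩ := exists_of_elemCheck (by have := hc.k0_lt; omega) hc.elem
  refine ⟨x, hx.1, hr, Equiv.ext fun y => gidx_injective (Fin.ext ?_), fun h => ?_⟩
  · rw [piter_rep hr, Equiv.Perm.one_apply]
    exact hc.power _ (mem_bits24.2 (gidx y).isLt)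
  · obtain ⟨i, hi, hne⟩ := hc.nontriv
    subst h
    apply hne
    rw [← hr.apply ⟨i, mem_bits24.1 hi⟩, Equiv.Perm.one_apply, gidx_gpt]

theorem exists_inv (hc : c.Good) {x : Equiv.Perm GolayPt} (hx : Rep x c.x) {v : ℕ} (hv : v ∈ c.invs) :
    ∃ u : Equiv.Perm GolayPt, u ∈ fixB c.k0 ∧ Rep u v ∧ u * u = 1 ∧ u ≠ 1 ∧ Commute x u := by
  obtain ⟨h1, ⟨i, hi, hne⟩, h3, -⟩ := hc.invs v hv
  obtain ⟨u, hu, hr, hri⟩ := exists_of_elemCheck (by have := hc.k0_lt; omega) h1
  refine ⟨u, hu.1, hr, ?_, fun h => ?_, Equiv.ext fun y => gidx_injective (Fin.ext ?_)⟩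
  · have e : u⁻¹ = u := hri.ext hr
    calc u * u = u⁻¹ * u := by rw [e]
      _ = 1 := inv_mul_cancel u
  · subst h
    apply hne
    rw [← hr.apply ⟨i, mem_bits24.1 hi⟩, Equiv.Perm.one_apply, gidx_gpt]
  · rw [Equiv.Perm.mul_apply, Equiv.Perm.mul_apply, hx, hr, hr, hx]
    exact (h3 _ (mem_bits24.2 (gidx y).isLt)).symm

theorem ok_congr (hc : c.Good) (k j : ℕ) (f f' : ℕ → ℕ) (h : ∀ i ≤ j, f i = f' i) :
    c.ok k j f = c.ok k j f' := by
  unfold NormCert.ok
  rw [h j le_rfl]
  congr 1
  apply Bool.eq_iff_iff.2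
  simp only [List.all_eq_true, Bool.or_eq_true]
  refine forall₂_congr fun t _ => ?_
  by_cases ht : t.2.1 ≤ j
  · rw [h _ ht]
  · have hb : Nat.ble t.2.1 j = false := by
      by_contra hb
      exact ht (Nat.le_of_ble_eq_true (by simpa using hb))
    simp [hb]

theorem card_norm_le (hc : c.Good) (H : Subgroup (Equiv.Perm GolayPt)) (hH : H ≤ fixB c.k0) (x : H)
    (hx : Rep (x : Equiv.Perm GolayPt) c.x) (hxr : x ^ c.r = 1) (hx1 : x ≠ 1) :
    Nat.card {g : H // ∃ k : ℕ, g * x * g⁻¹ = x ^ k} ≤ c.n := by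
  classical
  set L := (List.range c.r).flatMap fun k => if Nat.beq k 0 then [] else c.list k with hL
  have key : ∀ g : {g : H // ∃ k : ℕ, g * x * g⁻¹ = x ^ k},
      ∃ p : {p // p ∈ L}, Rep (((g : H)) : Equiv.Perm GolayPt) p := by
    rintro ⟨g, k, hk⟩
    set m := k % c.r with hm
    have hkm : x ^ k = x ^ m := pow_eq_pow_mod _ hxr
    rw [hkm] at hk
    have hm0 : m ≠ 0 := fun h => hx1 (by
      rw [h, pow_zero] at hk
      exact conj_eq_one_iff.1 hk)
    have hmr : m < c.r := Nat.mod_lt _ (by have := hc.one_lt; omega)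
    have hgx : ∀ e : ℕ, ∀ y : GolayPt, (gidx ((g : Equiv.Perm GolayPt) (((x : Equiv.Perm GolayPt) ^ e) y))).val =
        piter c.x (m * e % c.r) (gidx ((g : Equiv.Perm GolayPt) y)).val := by
      intro e y
      have h1 : g * x ^ e * g⁻¹ = x ^ (m * e % c.r) := by
        rw [← conj_pow, hk, ← pow_mul, pow_eq_pow_mod _ hxr]
      have h2 : g * x ^ e = x ^ (m * e % c.r) * g := by rw [← h1, inv_mul_cancel_right]
      have h3 := congrArg (fun z : H => (z : Equiv.Perm GolayPt) y) h2
      simp only [Subgroup.coe_mul, SubgroupClass.coe_pow, Equiv.Perm.mul_apply] at h3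
      rw [h3, piter_rep hx]
    obtain ⟨p, hp, hpr⟩ := exists_mem_enumAll (ok := c.ok m) (fun j _ f f' h => ok_congr hc m j f f' h)
      (hH g.2).1 (fun j hj => by
        unfold NormCert.ok
        simp only [Bool.and_eq_true, Bool.or_eq_true, List.all_eq_true]
        refine ⟨?_, fun t ht => ?_⟩
        · by_cases hjk : j < c.k0
          · right
            rw [bImg, (hH g.2).2 j hjk, gidx_bp' hj]
            exact Nat.beq_refl _
          · left
            have : Nat.blt j c.k0 = false := by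
              by_contra hb
              exact hjk (Nat.lt_of_succ_le (Nat.le_of_ble_eq_true (by simpa [Nat.blt] using hb)))
            simp [this]
        · obtain ⟨h1, h2, h3⟩ := hc.links t ht
          by_cases htj : t.1 = j
          · right
            subst htj
            have e : ((x : Equiv.Perm GolayPt) ^ t.2.2) (bp t.2.1) = bp t.1 :=
              gidx_injective (Fin.ext (by
                rw [piter_rep hx, gidx_bp' (by omega), h3, gidx_bp' h1]))
            have h4 := hgx t.2.2 (bp t.2.1)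
            rw [e] at h4
            rw [bImg, bImg, h4]
            exact Nat.beq_refl _
          · left; left
            have : Nat.beq t.1 j = false := by
              by_contra hb
              exact htj (Nat.eq_of_beq_eq_true (by simpa using hb))
            simp [this])
    refine ⟨⟨p, List.mem_flatMap.2 ⟨m, List.mem_range.2 hmr, ?_⟩⟩, hpr⟩
    rw [if_neg (fun h => hm0 (Nat.eq_of_beq_eq_true h))]
    refine List.mem_filter.2 ⟨hp, List.all_eq_true.2 fun i hi => ?_⟩
    have h5 := hgx 1 (gpt ⟨i, mem_bits24.1 hi⟩)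
    rw [pow_one, hpr, hx.apply, hpr.apply, mul_one, Nat.mod_eq_of_lt hmr] at h5
    rw [h5]
    exact Nat.beq_refl _
  choose F hF using key
  calc Nat.card {g : H // ∃ k : ℕ, g * x * g⁻¹ = x ^ k} ≤ Nat.card {p // p ∈ L} :=
        Nat.card_le_card_of_injective F fun a b h =>
          Subtype.ext (Subtype.ext ((hF a).ext (h ▸ hF b)))
    _ ≤ L.length := by
        rw [Nat.card_eq_fintype_card, Fintype.card_of_subtype L.toFinset (fun p => List.mem_toFinset)]
        exact L.toFinset_card_le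
    _ ≤ c.n := hc.count

end Cfsg.Lib.MathieuBlock
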