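import Cfsg.Agent.Lib.MathieuBlock.Enum
import Cfsg.Agent.Lib.MathieuBlock.Data
import Cfsg.Agent.Lib.Concrete.ClassFacts

/-!
Self-centralising normal 2-subgroups of the involution centralisers of M24.
-/

set_option autoImplicit false
set_option linter.style.haveILetI false
set_option linter.unusedSectionVars false

namespace Cfsg.Lib.MathieuBlock

open Cfsg Cfsg.Lib.Concrete
open scoped Pointwise

theorem enumM_rep {ok : ℕ → (ℕ → ℕ) → Bool} : ∀ (r j h : ℕ) (u : Equiv.Perm GolayPt), j + r = 7 →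
    u ∈ M24 → Rep u h → ∀ p ∈ enumM ok r j h, ∃ g ∈ M24, Rep g p := by
  intro r
  induction r with
  | zero =>
    intro j h u _ hu hur p hp
    rw [enumM, List.mem_singleton] at hp
    exact ⟨u, hu, hp ▸ hur⟩
  | succ r ih =>
    intro j h u hj hu hur p hp
    rw [enumM, List.mem_flatMap] at hp
    obtain ⟨e, he, hp⟩ := hp
    have hj7 : j < 7 := by omega
    have hc := List.all_eq_true.1 (List.all_eq_true.1 tr_check j (List.mem_range.2 hj7)) e he
    simp only [Bool.and_eq_true, decide_eq_true_eq] at hc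
    obtain ⟨t, ht, htr⟩ := exists_rep e.2 hc.1.1.2
    rw [forceNat_eq] at hp
    split at hp
    · rw [forceNat_eq] at hp
      exact ih (j + 1) _ (u * t) (by omega) (mul_mem hu (closure_gens_le ht)) (rep_pmul hur htr) p hp
    · simp at hp

/-- The image condition for the fixer of the base octad. -/
def okOct (j : ℕ) (f : ℕ → ℕ) : Bool := Nat.beq j 5 || Nat.beq (f j) (bAt j)

/-- The elements fixing the base octad pointwise. -/
def octFixList : List ℕ :=
  (enumAll okOct).filter fun g => bits24.all fun i => !m24BaseOctad.testBit i || Nat.beq (pget g i) i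

/-- The points outside the base octad. -/
def octOut : List ℕ := bits24.filter fun i => !m24BaseOctad.testBit i

theorem octFix_ok : (octFixList.all (fun g => bits24.all fun i => Nat.beq (pget g (pget g i)) i) &&
    octOut.all (fun i => (octFixList.any fun g => !Nat.beq (pget g i) i) &&
      octOut.all fun k => octFixList.any fun g => Nat.beq (pget g i) k) &&
    Nat.ble 9 octOut.length) = true := by
  decide +kernel

/-- Whether two positions lie in one tetrad of the representative sextet. -/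
def sameTet (x y : ℕ) : Bool := sextetRep.any fun m => m.testBit x && m.testBit y

/-- The image condition for the tetrad fixer. -/
def okSext (j : ℕ) (f : ℕ → ℕ) : Bool := sameTet (bAt j) (f j)

/-- The involutory elements fixing every tetrad. -/
def sextQList : List ℕ :=
  (enumAll okSext).filter fun g =>
    (bits24.all fun i => Nat.beq (pget g (pget g i)) i) && sextetRep.all fun m => Nat.beq (pimg g m) m

theorem sextQ_ok : (sextQList.all (fun g => sextQList.all fun h =>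
      bits24.all fun i => Nat.beq (pget g (pget h i)) (pget h (pget g i))) &&
    bits24.all (fun x => bits24.all fun y =>
      if sameTet x y then sextQList.any fun g => Nat.beq (pget g x) y
      else sextQList.any fun g => Nat.beq (pget g x) x && !Nat.beq (pget g y) y) &&
    sextetRep.all (fun m => Nat.blt m 16777216 && bits24.all fun x => bits24.all fun y =>
      !(m.testBit x && sameTet x y) || m.testBit y) &&
    bits24.all (fun x => sameTet x x) && Nat.beq (List.length sextetRep) 6 &&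
    sextetRep.all (fun m => Nat.beq (pimg (invTargets.getD 1 (0, 0)).1 m) m) &&
    (bits24.all fun i => Nat.beq (pget (invTargets.getD 1 (0, 0)).1 (pget (invTargets.getD 1 (0, 0)).1 i)) i) &&
    (sextList.any fun l => sameList l sextetRep) &&
    sextList.all (fun l => !(l.all fun m => Nat.beq (pimg (invTargets.getD 1 (0, 0)).1 m) m) ||
      sameList l sextetRep)) = true := by
  decide +kernel

theorem okOct_congr (j : ℕ) (f f' : ℕ → ℕ) (h : ∀ i ≤ j, f i = f' i) : okOct j f = okOct j f' := by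
  unfold okOct
  rw [h j le_rfl]

theorem okSext_congr (j : ℕ) (f f' : ℕ → ℕ) (h : ∀ i ≤ j, f i = f' i) : okSext j f = okSext j f' := by
  unfold okSext
  rw [h j le_rfl]

theorem bp_oct : ∀ j < 7, j ≠ 5 → bp j ∈ baseOctad := by decide +kernel

theorem mem_baseOctad {x : GolayPt} : x ∈ baseOctad ↔ m24BaseOctad.testBit (gidx x).val = true := mem_mset

theorem rep_octFix {g : Equiv.Perm GolayPt} (hg : g ∈ M24) (hfix : ∀ x ∈ baseOctad, g x = x) :
    ∃ p ∈ octFixList, Rep g p := by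
  obtain ⟨p, hp, hr⟩ := exists_mem_enumAll (ok := okOct) (fun j _ f f' h => okOct_congr j f f' h) hg
    (fun j hj => by
      unfold okOct
      by_cases h5 : j = 5
      · subst h5; rfl
      · rw [bImg, hfix _ (bp_oct j hj h5), gidx_bp' hj, Bool.or_eq_true]
        exact Or.inr (Nat.beq_refl _))
  refine ⟨p, List.mem_filter.2 ⟨hp, List.all_eq_true.2 fun i hi => ?_⟩, hr⟩
  rw [Bool.or_eq_true]
  by_cases hb : m24BaseOctad.testBit i = true
  · right
    have hx : gpt ⟨i, mem_bits24.1 hi⟩ ∈ baseOctad := mem_baseOctad.2 (by rw [gidx_gpt]; exact hb)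
    rw [← hr.apply ⟨i, mem_bits24.1 hi⟩, hfix _ hx, gidx_gpt]
    exact Nat.beq_refl _
  · left
    simpa using hb

theorem elem_octFix {p : ℕ} (hp : p ∈ octFixList) :
    ∃ g ∈ M24, Rep g p ∧ (∀ x ∈ baseOctad, g x = x) ∧ g * g = 1 := by
  obtain ⟨hp', hf⟩ := List.mem_filter.1 hp
  obtain ⟨g, hg, hr⟩ := enumM_rep 7 0 pId 1 rfl (one_mem _) rep_one p hp'
  refine ⟨g, hg, hr, fun x hx => gidx_injective (Fin.ext ?_), Equiv.ext fun x => gidx_injective (Fin.ext ?_)⟩
  · rw [hr]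
    have h := List.all_eq_true.1 hf _ (mem_bits24.2 (gidx x).isLt)
    rw [mem_baseOctad.1 hx] at h
    simpa [Nat.beq_eq] using h
  · have h := octFix_ok
    simp only [Bool.and_eq_true, List.all_eq_true, Nat.beq_eq] at h
    rw [Equiv.Perm.mul_apply, hr, hr, Equiv.Perm.one_apply]
    exact h.1.1 p hp _ (mem_bits24.2 (gidx x).isLt)

/-- The pointwise stabiliser of a set of points in M24. -/
def fixSet (O : Finset GolayPt) : Subgroup (Equiv.Perm GolayPt) where
  carrier := {g | g ∈ M24 ∧ ∀ x ∈ O, g x = x}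
  one_mem' := ⟨one_mem _, fun _ _ => rfl⟩
  mul_mem' := fun ha hb => ⟨mul_mem ha.1 hb.1, fun x hx => by
    rw [Equiv.Perm.mul_apply, hb.2 x hx, ha.2 x hx]⟩
  inv_mem' := fun {a} ha => ⟨inv_mem ha.1, fun x hx => by
    conv_lhs => rw [← ha.2 x hx]
    exact a.symm_apply_apply x⟩

theorem sq_fixSet_base {g : Equiv.Perm GolayPt} (hg : g ∈ fixSet baseOctad) : g * g = 1 := by
  obtain ⟨p, hp, hr⟩ := rep_octFix hg.1 hg.2
  obtain ⟨g', -, hr', -, h2⟩ := elem_octFix hp
  rwa [hr.ext hr']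

theorem comm_of_sq {H : Subgroup (Equiv.Perm GolayPt)} (h : ∀ g ∈ H, g * g = 1) {a b : Equiv.Perm GolayPt}
    (ha : a ∈ H) (hb : b ∈ H) : a * b = b * a := by
  have e : ∀ g ∈ H, g⁻¹ = g := fun g hg => inv_eq_of_mul_eq_one_left (h g hg)
  calc a * b = (a * b)⁻¹ := (e _ (mul_mem ha hb)).symm
    _ = b⁻¹ * a⁻¹ := mul_inv_rev a b
    _ = b * a := by rw [e a ha, e b hb]

theorem mem_octOut {x : GolayPt} (hx : x ∉ baseOctad) : (gidx x).val ∈ octOut :=
  List.mem_filter.2 ⟨mem_bits24.2 (gidx x).isLt, by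
    have := fun e => hx (mem_baseOctad.2 e)
    simpa using this⟩

theorem centralizer_fixSet_base {g : Equiv.Perm GolayPt} (hg : g ∈ M24)
    (hc : ∀ q ∈ fixSet baseOctad, q * g = g * q) : g ∈ fixSet baseOctad := by
  classical
  have hT := octFix_ok
  simp only [Bool.and_eq_true, List.all_eq_true, List.any_eq_true, Nat.beq_eq] at hT
  obtain ⟨⟨-, hT⟩, hlen⟩ := hT
  have hmv : ∀ x ∉ baseOctad, ∃ q ∈ fixSet baseOctad, q x ≠ x := fun x hx => by
    obtain ⟨⟨p, hp, hpne⟩, -⟩ := hT _ (mem_octOut hx)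
    obtain ⟨q, hq, hqr, hqf, -⟩ := elem_octFix hp
    refine ⟨q, ⟨hq, hqf⟩, fun e => ?_⟩
    have := hqr x
    rw [e] at this
    rw [← this, Nat.beq_refl] at hpne
    exact absurd hpne (by decide)
  have hin : ∀ x ∈ baseOctad, g x ∈ baseOctad := fun x hx => by
    by_contra hn
    obtain ⟨q, hq, hne⟩ := hmv _ hn
    apply hne
    calc q (g x) = (q * g) x := rfl
      _ = (g * q) x := by rw [hc q hq]
      _ = g x := by rw [Equiv.Perm.mul_apply, hq.2 x hx]
  have himg : baseOctad.image g = baseOctad := Finset.eq_of_subset_of_card_le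
    (fun y hy => by
      obtain ⟨x, hx, rfl⟩ := Finset.mem_image.1 hy
      exact hin x hx)
    (by rw [Finset.card_image_of_injective _ g.injective])
  have hout : ∀ x ∉ baseOctad, g x ∉ baseOctad := fun x hx h => by
    rw [← himg, Finset.mem_image] at h
    obtain ⟨y, hy, e⟩ := h
    exact hx (g.injective e ▸ hy)
  obtain ⟨x₀, hx₀⟩ : ∃ x, x ∉ baseOctad := by
    by_contra h
    push Not at h
    have h1 : baseOctad = Finset.univ := Finset.eq_univ_of_forall h
    exact absurd h1 (by decide +kernel)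
  obtain ⟨-, hto⟩ := hT _ (mem_octOut hx₀)
  obtain ⟨p, hp, hpe⟩ := hto _ (mem_octOut (hout x₀ hx₀))
  obtain ⟨q, hqM, hqr, hqf, -⟩ := elem_octFix hp
  have hq : q ∈ fixSet baseOctad := ⟨hqM, hqf⟩
  have hq0 : q x₀ = g x₀ := gidx_injective (Fin.ext ((hqr x₀).trans hpe))
  have hfix : ∀ y ∉ baseOctad, (q⁻¹ * g) y = y := fun y hy => by
    obtain ⟨p', hp', hpe'⟩ := hto _ (mem_octOut hy)
    obtain ⟨q', hq'M, hqr', hqf', -⟩ := elem_octFix hp'
    have hq' : q' ∈ fixSet baseOctad := ⟨hq'M, hqf'⟩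
    have hy' : q' x₀ = y := gidx_injective (Fin.ext ((hqr' x₀).trans hpe'))
    rw [Equiv.Perm.mul_apply, Equiv.Perm.inv_def, Equiv.symm_apply_eq, ← hy']
    calc g (q' x₀) = (g * q') x₀ := rfl
      _ = (q' * g) x₀ := by rw [hc q' hq']
      _ = q' (q x₀) := by rw [Equiv.Perm.mul_apply, hq0]
      _ = (q' * q) x₀ := rfl
      _ = (q * q') x₀ := by rw [comm_of_sq (fun a ha => sq_fixSet_base ha) hq' hq]
  have h9 : 9 ≤ (Finset.univ \ baseOctad : Finset GolayPt).card := by decide +kernel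
  have h1 := eq_one_of_nine_fixed (mul_mem (inv_mem hqM) hg) h9
    (fun y hy => hfix y (Finset.mem_sdiff.1 hy).2)
  rw [inv_mul_eq_one] at h1
  exact h1 ▸ hq

theorem fixSet_conj {c g : Equiv.Perm GolayPt} (hc : c ∈ M24) {O : Finset GolayPt} (hO : c • baseOctad = O) :
    g ∈ fixSet O ↔ c⁻¹ * g * c ∈ fixSet baseOctad := by
  subst hO
  constructor
  · intro hg
    refine ⟨mul_mem (mul_mem (inv_mem hc) hg.1) hc, fun x hx => ?_⟩
    rw [Equiv.Perm.mul_apply, Equiv.Perm.mul_apply, hg.2 (c x) (Finset.smul_mem_smul_finset hx),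
      Equiv.Perm.inv_def, Equiv.symm_apply_apply]
  · intro hg
    refine ⟨?_, fun y hy => ?_⟩
    · have := mul_mem (mul_mem hc hg.1) (inv_mem hc)
      simpa [mul_assoc] using this
    · obtain ⟨x, hx, rfl⟩ := Finset.mem_smul_finset.1 hy
      have h := hg.2 x hx
      rw [Equiv.Perm.mul_apply, Equiv.Perm.mul_apply, Equiv.Perm.inv_def, Equiv.symm_apply_eq] at h
      exact h

theorem octad_case {t : Equiv.Perm GolayPt} (ht : t ∈ M24)
    (hO : (Finset.univ.filter fun x => t x = x) ∈ octads) :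
    ∃ Q : Subgroup (Equiv.Perm GolayPt), Q ≤ M24 ∧ (∀ q ∈ Q, q * q = 1) ∧ (∀ q ∈ Q, t * q = q * t) ∧
      (∀ g ∈ M24, g * t = t * g → ∀ q ∈ Q, g * q * g⁻¹ ∈ Q) ∧
      (∀ g ∈ M24, (∀ q ∈ Q, q * g = g * q) → g ∈ Q) ∧
      (∀ x, t x = x → ∀ q ∈ Q, q x = x) := by
  set O := Finset.univ.filter fun x => t x = x with hOd
  obtain ⟨c, hc, hcO⟩ := M24_octad_transitive baseOctad_mem hO
  have hsq : ∀ q ∈ fixSet O, q * q = 1 := fun q hq => by
    have h := sq_fixSet_base ((fixSet_conj hc hcO).1 hq)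
    rw [show c⁻¹ * q * c * (c⁻¹ * q * c) = c⁻¹ * (q * q) * c by group] at h
    exact conj_eq_one_iff.1 (by simpa using h : c⁻¹ * (q * q) * c⁻¹⁻¹ = 1)
  refine ⟨fixSet O, fun q hq => hq.1, hsq,
    fun q hq => comm_of_sq hsq ⟨ht, fun x hx => (Finset.mem_filter.1 hx).2⟩ hq, ?_, ?_,
    fun x hx q hq => hq.2 x (Finset.mem_filter.2 ⟨Finset.mem_univ _, hx⟩)⟩
  · intro g hg hgt q hq
    refine ⟨mul_mem (mul_mem hg hq.1) (inv_mem hg), fun x hx => ?_⟩
    have hx' : g⁻¹ x ∈ O := by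
      refine Finset.mem_filter.2 ⟨Finset.mem_univ _, g.injective ?_⟩
      calc g (t (g⁻¹ x)) = (g * t) (g⁻¹ x) := rfl
        _ = t (g (g⁻¹ x)) := by rw [hgt]; rfl
        _ = x := by rw [Equiv.Perm.inv_def, Equiv.apply_symm_apply]; exact (Finset.mem_filter.1 hx).2
        _ = g (g⁻¹ x) := by rw [Equiv.Perm.inv_def, Equiv.apply_symm_apply]
    rw [Equiv.Perm.mul_apply, Equiv.Perm.mul_apply, hq.2 _ hx', Equiv.Perm.inv_def, Equiv.apply_symm_apply]
  · intro g hg hcm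
    refine (fixSet_conj hc hcO).2 (centralizer_fixSet_base (mul_mem (mul_mem (inv_mem hc) hg) hc) fun q hq => ?_)
    have hq' : c * q * c⁻¹ ∈ fixSet O := (fixSet_conj hc hcO).2 (by simpa [mul_assoc] using hq)
    have h := hcm _ hq'
    calc q * (c⁻¹ * g * c) = c⁻¹ * (c * q * c⁻¹ * g) * c := by group
      _ = c⁻¹ * (g * (c * q * c⁻¹)) * c := by rw [h]
      _ = c⁻¹ * g * c * q := by group

/-- Fixing every tetrad of the representative sextet. -/
def FixTet (g : Equiv.Perm GolayPt) : Prop := ∀ m ∈ sextetRep, g • mset m = mset m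

theorem rep_sextQ {g : Equiv.Perm GolayPt} (hg : g ∈ M24) (hf : FixTet g) (h2 : g * g = 1) :
    ∃ p ∈ sextQList, Rep g p := by
  have hT := sextQ_ok
  simp only [Bool.and_eq_true, List.all_eq_true] at hT
  have hrefl := hT.1.1.1.1.1.2
  obtain ⟨p, hp, hr⟩ := exists_mem_enumAll (ok := okSext) (fun j _ f f' h => okSext_congr j f f' h) hg
    (fun j hj => by
      have h := hrefl (bAt j) (mem_bits24.2 (by rw [← gidx_bp' hj]; exact Fin.isLt _))
      unfold sameTet at h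
      obtain ⟨m, hm, hmx⟩ := List.any_eq_true.1 h
      simp only [Bool.and_self] at hmx
      refine List.any_eq_true.2 ⟨m, hm, ?_⟩
      have hmem : g (bp j) ∈ mset m := by
        rw [← hf m hm]
        exact Finset.smul_mem_smul_finset (mem_mset.2 (by rw [gidx_bp' hj]; exact hmx))
      rw [hmx, Bool.true_and]
      exact mem_mset.1 hmem)
  refine ⟨p, List.mem_filter.2 ⟨hp, ?_⟩, hr⟩
  simp only [Bool.and_eq_true, List.all_eq_true]
  refine ⟨fun i hi => ?_, fun m hm => ?_⟩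
  · have h := hr (g (gpt ⟨i, mem_bits24.1 hi⟩))
    rw [show g (g (gpt ⟨i, mem_bits24.1 hi⟩)) = (g * g) (gpt ⟨i, mem_bits24.1 hi⟩) from rfl, h2,
      hr.apply, Equiv.Perm.one_apply, gidx_gpt] at h
    rw [← h]
    exact Nat.beq_refl _
  · have hlt := hT.1.1.1.1.1.1.2 m hm
    rw [← fix_mask_iff hr (Nat.lt_of_succ_le (Nat.le_of_ble_eq_true hlt.1))]
    exact hf m hm

theorem elem_sextQ {p : ℕ} (hp : p ∈ sextQList) : ∃ g ∈ M24, Rep g p ∧ FixTet g ∧ g * g = 1 := by
  obtain ⟨hp', hf⟩ := List.mem_filter.1 hp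
  obtain ⟨g, hg, hr⟩ := enumM_rep 7 0 pId 1 rfl (one_mem _) rep_one p hp'
  simp only [Bool.and_eq_true, List.all_eq_true] at hf
  refine ⟨g, hg, hr, fun m hm => ?_, Equiv.ext fun x => gidx_injective (Fin.ext ?_)⟩
  · have hT := sextQ_ok
    simp only [Bool.and_eq_true, List.all_eq_true] at hT
    exact (fix_mask_iff hr (Nat.lt_of_succ_le (Nat.le_of_ble_eq_true (hT.1.1.1.1.1.1.2 m hm).1))).2 (hf.2 m hm)
  · rw [Equiv.Perm.mul_apply, hr, hr, Equiv.Perm.one_apply]
    exact Nat.eq_of_beq_eq_true (hf.1 _ (mem_bits24.2 (gidx x).isLt))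

theorem sextQ_comm {a b : Equiv.Perm GolayPt} (ha : a ∈ M24 ∧ FixTet a ∧ a * a = 1)
    (hb : b ∈ M24 ∧ FixTet b ∧ b * b = 1) : a * b = b * a := by
  have hT := sextQ_ok
  simp only [Bool.and_eq_true, List.all_eq_true, Nat.beq_eq] at hT
  obtain ⟨p, hp, hpr⟩ := rep_sextQ ha.1 ha.2.1 ha.2.2
  obtain ⟨q, hq, hqr⟩ := rep_sextQ hb.1 hb.2.1 hb.2.2
  refine Equiv.ext fun x => gidx_injective (Fin.ext ?_)
  rw [Equiv.Perm.mul_apply, Equiv.Perm.mul_apply, hpr, hqr, hqr, hpr]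
  exact hT.1.1.1.1.1.1.1.1 p hp q hq _ (mem_bits24.2 (gidx x).isLt)

/-- The subgroup of the involutory elements fixing every tetrad. -/
def sextQ : Subgroup (Equiv.Perm GolayPt) where
  carrier := {g | g ∈ M24 ∧ FixTet g ∧ g * g = 1}
  one_mem' := ⟨one_mem _, fun m _ => one_smul _ _, one_mul 1⟩
  mul_mem' := fun {a b} ha hb => ⟨mul_mem ha.1 hb.1,
    fun m hm => by rw [mul_smul, hb.2.1 m hm, ha.2.1 m hm],
    by rw [mul_assoc, ← mul_assoc b a b, ← sextQ_comm ha hb, mul_assoc a b b, hb.2.2, mul_one, ha.2.2]⟩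
  inv_mem' := fun {a} ha => by
    rw [show a⁻¹ = a from inv_eq_of_mul_eq_one_left ha.2.2]
    exact ha

theorem centralizer_sextQ {g : Equiv.Perm GolayPt} (hg : g ∈ M24) (hc : ∀ q ∈ sextQ, q * g = g * q) :
    g ∈ sextQ := by
  have hT := sextQ_ok
  simp only [Bool.and_eq_true, List.all_eq_true] at hT
  have hpair := hT.1.1.1.1.1.1.1.2
  have hcls := hT.1.1.1.1.1.1.2
  have hsame : ∀ x : GolayPt, sameTet (gidx x).val (gidx (g x)).val = true := fun x => by
    by_contra hn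
    have h := hpair _ (mem_bits24.2 (gidx x).isLt) _ (mem_bits24.2 (gidx (g x)).isLt)
    rw [if_neg hn] at h
    obtain ⟨p, hp, hp'⟩ := List.any_eq_true.1 h
    simp only [Bool.and_eq_true, Nat.beq_eq, Bool.not_eq_true'] at hp'
    obtain ⟨q, hq, hqr, hqf, hq2⟩ := elem_sextQ hp
    have hqx : q x = x := gidx_injective (Fin.ext ((hqr x).trans hp'.1))
    have : q (g x) = g x := by
      calc q (g x) = (q * g) x := rfl
        _ = (g * q) x := by rw [hc q ⟨hq, hqf, hq2⟩]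
        _ = g x := by rw [Equiv.Perm.mul_apply, hqx]
    have h2 := hqr (g x)
    rw [this] at h2
    rw [← h2, Nat.beq_refl] at hp'
    exact absurd hp'.2 (by decide)
  refine ⟨hg, fun m hm => ?_, Equiv.ext fun x => ?_⟩
  · refine Finset.eq_of_subset_of_card_le (fun y hy => ?_) (by rw [Finset.card_smul_finset])
    obtain ⟨x, hx, rfl⟩ := Finset.mem_smul_finset.1 hy
    have h := (hcls m hm).2 _ (mem_bits24.2 (gidx x).isLt) _ (mem_bits24.2 (gidx (g x)).isLt)
    rw [mem_mset.1 hx, hsame x] at h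
    exact mem_mset.2 (by simpa using h)
  · have h := hpair _ (mem_bits24.2 (gidx x).isLt) _ (mem_bits24.2 (gidx (g x)).isLt)
    rw [if_pos (hsame x)] at h
    obtain ⟨p, hp, hp'⟩ := List.any_eq_true.1 h
    obtain ⟨q, hq, hqr, hqf, hq2⟩ := elem_sextQ hp
    have hqx : q x = g x := gidx_injective (Fin.ext ((hqr x).trans (Nat.eq_of_beq_eq_true hp')))
    rw [Equiv.Perm.mul_apply, Equiv.Perm.one_apply, ← hqx]
    calc g (q x) = (g * q) x := rfl
      _ = (q * g) x := by rw [hc q ⟨hq, hqf, hq2⟩]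
      _ = (q * q) x := by rw [Equiv.Perm.mul_apply, ← hqx]; rfl
      _ = x := by rw [hq2]; rfl

theorem famsOk_lt {L : List (List ℕ)} (h : famsOk L = true) {l : List ℕ} (hl : l ∈ L) :
    ∀ m ∈ l, m < 2 ^ 24 := by
  simp only [famsOk, Bool.and_eq_true, List.all_eq_true] at h
  exact (famOk_sound (h.2 l hl)).2

theorem free_case {t : Equiv.Perm GolayPt} (hc : ∃ c ∈ M24, Rep (c⁻¹ * t * c) (invTargets.getD 1 (0, 0)).1)
    (ht : t ∈ M24) :
    ∃ Q : Subgroup (Equiv.Perm GolayPt), Q ≤ M24 ∧ (∀ q ∈ Q, q * q = 1) ∧ (∀ q ∈ Q, t * q = q * t) ∧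
      (∀ g ∈ M24, g * t = t * g → ∀ q ∈ Q, g * q * g⁻¹ ∈ Q) ∧
      (∀ g ∈ M24, (∀ q ∈ Q, q * g = g * q) → g ∈ Q) := by
  obtain ⟨c, hcM, hr⟩ := hc
  have hT := sextQ_ok
  simp only [Bool.and_eq_true, List.all_eq_true] at hT
  obtain ⟨⟨⟨⟨⟨-, h6⟩, hfix0⟩, hsq0⟩, hany⟩, huniq⟩ := hT
  have hlt : ∀ m ∈ sextetRep, m < 2 ^ 24 := by decide
  set t₀ := c⁻¹ * t * c with ht₀
  have ht₀M : t₀ ∈ M24 := mul_mem (mul_mem (inv_mem hcM) ht) hcM
  have ht₀Q : t₀ ∈ sextQ := ⟨ht₀M, fun m hm => (fix_mask_iff hr (hlt m hm)).2 (hfix0 m hm),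
    Equiv.ext fun x => gidx_injective (Fin.ext (by
      rw [Equiv.Perm.mul_apply, hr, hr, Equiv.Perm.one_apply]
      exact Nat.eq_of_beq_eq_true (hsq0 _ (mem_bits24.2 (gidx x).isLt))))⟩
  have hS : lset sextetRep ∈ sextets := by
    obtain ⟨l, hl, hl'⟩ := List.any_eq_true.1 hany
    rw [← sameList_sound l sextetRep hl', sextets_eq, Finset.mem_coe, mem_famSet]
    exact ⟨l, hl, rfl⟩
  have hnorm : ∀ g ∈ M24, g * t₀ = t₀ * g → ∀ m ∈ sextetRep, ∃ m' ∈ sextetRep, g • mset m = mset m' := by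
    intro g hg hgt m hm
    obtain ⟨l, hl, hl'⟩ := mem_famSet.1
      (Finset.mem_coe.1 (sextets_eq ▸ (smul_mem_sextets_iff hg _).2 hS))
    have hgm : g • mset m ∈ g • lset sextetRep :=
      Finset.smul_mem_smul_finset (List.mem_toFinset.2 (List.mem_map.2 ⟨m, hm, rfl⟩))
    rcases Bool.or_eq_true_iff.1 (huniq l hl) with hbad | hsame
    · exfalso
      simp only [Bool.not_eq_true', List.all_eq_false] at hbad
      obtain ⟨m₁, hm₁, hne⟩ := hbad
      apply hne
      rw [← fix_mask_iff hr (famsOk_lt sextFams hl m₁ hm₁)]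
      have h1 : mset m₁ ∈ g • lset sextetRep := by
        rw [hl']
        exact List.mem_toFinset.2 (List.mem_map.2 ⟨m₁, hm₁, rfl⟩)
      obtain ⟨T, hTm, hTe⟩ := Finset.mem_smul_finset.1 h1
      obtain ⟨m₀, hm₀, rfl⟩ := List.mem_map.1 (List.mem_toFinset.1 hTm)
      rw [← hTe, ← mul_smul, ← hgt, mul_smul, ht₀Q.2.1 m₀ hm₀]
    · rw [hl', sameList_sound l sextetRep hsame] at hgm
      obtain ⟨m', hm', e⟩ := List.mem_map.1 (List.mem_toFinset.1 hgm)
      exact ⟨m', hm', e.symm⟩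
  let Q : Subgroup (Equiv.Perm GolayPt) := sextQ.map (MulAut.conj c).toMonoidHom
  have hmem : ∀ q, q ∈ Q ↔ c⁻¹ * q * c ∈ sextQ := fun q => by
    constructor
    · rintro ⟨a, ha, rfl⟩
      simpa [mul_assoc] using ha
    · intro h
      exact ⟨_, h, by simp [mul_assoc]⟩
  refine ⟨Q, fun q hq => ?_, fun q hq => ?_, fun q hq => ?_, fun g hg hgt q hq => ?_, fun g hg hcm => ?_⟩
  · have := mul_mem (mul_mem hcM ((hmem q).1 hq).1) (inv_mem hcM)
    simpa [mul_assoc] using this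
  · have h := ((hmem q).1 hq).2.2
    rw [show c⁻¹ * q * c * (c⁻¹ * q * c) = c⁻¹ * (q * q) * c by group] at h
    exact conj_eq_one_iff.1 (by simpa using h : c⁻¹ * (q * q) * c⁻¹⁻¹ = 1)
  · have h := sextQ_comm ht₀Q ((hmem q).1 hq)
    calc t * q = c * (t₀ * (c⁻¹ * q * c)) * c⁻¹ := by rw [ht₀]; group
      _ = c * (c⁻¹ * q * c * t₀) * c⁻¹ := by rw [h]
      _ = q * t := by rw [ht₀]; group
  · rw [hmem]
    set g₀ := c⁻¹ * g * c with hg₀
    have hg₀M : g₀ ∈ M24 := mul_mem (mul_mem (inv_mem hcM) hg) hcM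
    have hg₀t : g₀⁻¹ * t₀ = t₀ * g₀⁻¹ := by
      rw [hg₀, ht₀]
      calc (c⁻¹ * g * c)⁻¹ * (c⁻¹ * t * c) = c⁻¹ * (g⁻¹ * (t * g) * g⁻¹) * c := by group
        _ = c⁻¹ * (g⁻¹ * (g * t) * g⁻¹) * c := by rw [hgt]
        _ = c⁻¹ * t * c * (c⁻¹ * g * c)⁻¹ := by group
    obtain ⟨hqM, hqf, hq2⟩ := (hmem q).1 hq
    rw [show c⁻¹ * (g * q * g⁻¹) * c = g₀ * (c⁻¹ * q * c) * g₀⁻¹ by rw [hg₀]; group]
    refine ⟨mul_mem (mul_mem hg₀M hqM) (inv_mem hg₀M), fun m hm => ?_, ?_⟩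
    · obtain ⟨m', hm', e⟩ := hnorm _ (inv_mem hg₀M) hg₀t m hm
      rw [mul_smul, mul_smul, e, hqf m' hm', ← e, smul_inv_smul]
    · calc g₀ * (c⁻¹ * q * c) * g₀⁻¹ * (g₀ * (c⁻¹ * q * c) * g₀⁻¹)
          = g₀ * ((c⁻¹ * q * c) * (c⁻¹ * q * c)) * g₀⁻¹ := by group
        _ = 1 := by rw [hq2, mul_one, mul_inv_cancel]
  · rw [hmem]
    refine centralizer_sextQ (mul_mem (mul_mem (inv_mem hcM) hg) hcM) fun q hq => ?_
    have h := hcm (c * q * c⁻¹) ((hmem _).2 (by simpa [mul_assoc] using hq))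
    calc q * (c⁻¹ * g * c) = c⁻¹ * (c * q * c⁻¹ * g) * c := by group
      _ = c⁻¹ * (g * (c * q * c⁻¹)) * c := by rw [h]
      _ = c⁻¹ * g * c * q := by group

/-- Every involution centraliser of M24 has a self-centralising normal elementary abelian 2-subgroup. -/
theorem exists_core {t : Equiv.Perm GolayPt} (ht : t ∈ M24) (h2 : orderOf t = 2) :
    ∃ Q : Subgroup (Equiv.Perm GolayPt), Q ≤ M24 ∧ (∀ q ∈ Q, q * q = 1) ∧ (∀ q ∈ Q, t * q = q * t) ∧
      (∀ g ∈ M24, g * t = t * g → ∀ q ∈ Q, g * q * g⁻¹ ∈ Q) ∧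
      (∀ g ∈ M24, (∀ q ∈ Q, q * g = g * q) → g ∈ Q) ∧
      ((∃ x, t x = x) → ∀ x, t x = x → ∀ q ∈ Q, q x = x) := by
  rcases involution_of_fixed ht h2 with ⟨h8, -⟩ | ⟨h0, hc⟩
  · rcases involution_classes.1 t ht h2 with hO | hfree
    · obtain ⟨Q, a, b, c, d, e, f⟩ := octad_case ht hO
      exact ⟨Q, a, b, c, d, e, fun _ => f⟩
    · rw [(fix_zero_iff t).2 hfree] at h8
      omega
  · obtain ⟨Q, a, b, c, d, e⟩ := free_case hc ht
    exact ⟨Q, a, b, c, d, e, fun ⟨x, hx⟩ => absurd hx ((fix_zero_iff t).1 h0 x)⟩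

end Cfsg.Lib.MathieuBlock
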