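import Cfsg.Agent.Lib.Concrete.Classes

/-!
Exhaustive listing, inside M24, of the elements whose images of the base points obey given conditions.
-/

set_option autoImplicit false

namespace Cfsg.Lib.MathieuBlock

open Cfsg Cfsg.Lib.Concrete

/-- Evaluate a numeral before it is substituted. -/
def forceNat {α : Type} (n : ℕ) (f : ℕ → α) : α :=
  match n with
  | 0 => f 0
  | m + 1 => f (Nat.succ m)

theorem forceNat_eq {α : Type} (n : ℕ) (f : ℕ → α) : forceNat n f = f n := by cases n <;> rfl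

/-- The packed product. -/
def pmul (h t : ℕ) : ℕ := packList (bits24.map fun i => pget h (pget t i))

/-- The `j`-th base point. -/
def bAt (j : ℕ) : ℕ := m24Base.getD j 0

/-- The depth-first listing. -/
def enumM (ok : ℕ → (ℕ → ℕ) → Bool) : ℕ → ℕ → ℕ → List ℕ
  | 0, _, h => [h]
  | r + 1, j, h => (m24Tr.getD j []).flatMap fun e =>
      forceNat (m24Perms.getD e.2 0) fun t =>
        if ok j (fun i => pget h (pget t (bAt i))) then forceNat (pmul h t) (enumM ok r (j + 1)) else []

theorem pget_lt_of_rep {g : Equiv.Perm GolayPt} {p : ℕ} (hg : Rep g p) {i : ℕ} (hi : i < 24) :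
    pget p i < 24 := by
  rw [← hg.apply ⟨i, hi⟩]
  exact Fin.isLt _

theorem rep_pmul {g u : Equiv.Perm GolayPt} {p q : ℕ} (hg : Rep g p) (hu : Rep u q) :
    Rep (g * u) (pmul p q) := by
  refine hg.mul hu (List.all_eq_true.2 fun i hi => ?_)
  have h1 : pget (pmul p q) i = pget p (pget q i) := by
    unfold pmul
    rw [pget_packList _ (fun a ha => by
      obtain ⟨k, hk, rfl⟩ := List.mem_map.1 ha
      exact lt_trans (pget_lt_of_rep hg (pget_lt_of_rep hu (mem_bits24.1 hk))) (by norm_num)) i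
      (by simpa [bits24] using mem_bits24.1 hi)]
    have hlen : i < bits24.length := by simpa [bits24] using mem_bits24.1 hi
    rw [List.getD_eq_getElem _ _ (by simpa using hlen), List.getElem_map]
    have e : ∀ k : Fin 24, bits24[k.val]'(by simpa [bits24] using k.isLt) = k.val := by decide
    rw [e ⟨i, mem_bits24.1 hi⟩]
  rw [h1]
  exact Nat.beq_refl _

theorem gidx_bp' {j : ℕ} (hj : j < 7) : (gidx (bp j)).val = bAt j := by
  rw [bp, gidx_gpt, Fin.val_ofNat, Nat.mod_eq_of_lt (base_lt j hj)]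
  rfl

theorem pget_bp' {g : Equiv.Perm GolayPt} {p : ℕ} (hg : Rep g p) {j : ℕ} (hj : j < 7) :
    (gidx (g (bp j))).val = pget p (bAt j) := by rw [hg, gidx_bp' hj]

/-- The image of a base point as a position. -/
def bImg (g : Equiv.Perm GolayPt) (i : ℕ) : ℕ := (gidx (g (bp i))).val

theorem enumM_complete {ok : ℕ → (ℕ → ℕ) → Bool}
    (hok : ∀ j < 7, ∀ f f' : ℕ → ℕ, (∀ i ≤ j, f i = f' i) → ok j f = ok j f')
    {g : Equiv.Perm GolayPt} (hg : g ∈ M24) (hgood : ∀ j < 7, ok j (bImg g) = true) :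
    ∀ (r j h : ℕ) (u : Equiv.Perm GolayPt), j + r = 7 → u ∈ M24 → Rep u h →
      (∀ i < j, u (bp i) = g (bp i)) → ∃ p ∈ enumM ok r j h, Rep g p := by
  intro r
  induction r with
  | zero =>
    intro j h u hj hu hur hag
    refine ⟨h, by simp [enumM], ?_⟩
    have h7 : u⁻¹ * g ∈ fixB 7 := by
      refine ⟨mul_mem (inv_mem hu) hg, fun i hi => ?_⟩
      rw [Equiv.Perm.mul_apply, Equiv.Perm.inv_def, Equiv.symm_apply_eq]
      exact (hag i (by omega)).symm
    rw [fixB_seven, Subgroup.mem_bot, inv_mul_eq_one] at h7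
    exact h7 ▸ hur
  | succ r ih =>
    intro j h u hj hu hur hag
    have hj7 : j < 7 := by omega
    have hf : u⁻¹ * g ∈ fixB j := by
      refine ⟨mul_mem (inv_mem hu) hg, fun i hi => ?_⟩
      rw [Equiv.Perm.mul_apply, Equiv.Perm.inv_def, Equiv.symm_apply_eq]
      exact (hag i hi).symm
    obtain ⟨e, he, hx⟩ := List.mem_map.1 (List.mem_toFinset.1 (apply_mem_trPts hj7 hf))
    have hc := List.all_eq_true.1 (List.all_eq_true.1 tr_check j (List.mem_range.2 hj7)) e he
    simp only [Bool.and_eq_true, decide_eq_true_eq, Nat.beq_eq, List.all_eq_true, List.mem_range] at hc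
    obtain ⟨⟨⟨h1, h2⟩, h3⟩, h4⟩ := hc
    obtain ⟨t, ht, htr⟩ := exists_rep e.2 h2
    have htM := closure_gens_le ht
    have hur' := rep_pmul hur htr
    have hfix : ∀ i < j, t (bp i) = bp i := fun i hi => by
      refine htr.apply_eq ?_
      simp only [Fin.val_ofNat, Nat.mod_eq_of_lt (base_lt i (by omega))]
      exact h4 i hi
    have hto : t (bp j) = gpt (Fin.ofNat 24 e.1) := by
      refine htr.apply_eq ?_
      simp only [Fin.val_ofNat, Nat.mod_eq_of_lt (base_lt j hj7), Nat.mod_eq_of_lt h1]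
      exact h3
    have hag' : ∀ i < j + 1, (u * t) (bp i) = g (bp i) := by
      intro i hi
      rw [Equiv.Perm.mul_apply]
      rcases Nat.lt_or_ge i j with hij | hij
      · rw [hfix i hij, hag i hij]
      · obtain rfl : i = j := by omega
        rw [hto, hx]
        simp [Equiv.Perm.mul_apply]
    obtain ⟨p, hp, hpr⟩ := ih (j + 1) _ (u * t) (by omega) (mul_mem hu htM) hur' hag'
    refine ⟨p, List.mem_flatMap.2 ⟨e, he, ?_⟩, hpr⟩
    rw [forceNat_eq, if_pos]
    · rw [forceNat_eq]
      exact hp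
    · rw [hok j hj7 _ (bImg g) fun i hi => ?_]
      · exact hgood j hj7
      · rw [bImg, ← hag' i (by omega), Equiv.Perm.mul_apply, hur, pget_bp' htr (by omega)]

/-- The listing from the identity. -/
def enumAll (ok : ℕ → (ℕ → ℕ) → Bool) : List ℕ := enumM ok 7 0 pId

theorem exists_mem_enumAll {ok : ℕ → (ℕ → ℕ) → Bool}
    (hok : ∀ j < 7, ∀ f f' : ℕ → ℕ, (∀ i ≤ j, f i = f' i) → ok j f = ok j f')
    {g : Equiv.Perm GolayPt} (hg : g ∈ M24) (hgood : ∀ j < 7, ok j (bImg g) = true) :
    ∃ p ∈ enumAll ok, Rep g p :=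
  enumM_complete hok hg hgood 7 0 pId 1 rfl (one_mem _) rep_one (fun i hi => absurd hi (Nat.not_lt_zero _))

end Cfsg.Lib.MathieuBlock
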